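/-
Coordinates on a homocyclic subgroup of rank two.
-/
import Mathlib
import Cfsg.Agent.Lib.ScnThreeTwo.Maximal

set_option autoImplicit false
set_option linter.style.haveILetI false

namespace Cfsg.Agent.ScnThreeTwo

open Matrix

/-- The matrix of a generator of the odd automorphisms modulo two. -/
def wmat : Matrix (Fin 2) (Fin 2) (ZMod 2) := !![0, 1; 1, 1]

theorem wmat_cube : wmat * wmat * wmat = 1 := by decide +kernel

theorem layer_dichotomy_aux : ∀ a b c d : ZMod 2,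
    !![a, b; c, d] + wmat * !![a, b; c, d] * (wmat * wmat) + wmat * wmat * !![a, b; c, d] * wmat = 0 →
    !![a, b; c, d] = 0 ∨ (a * d + b * c = 1 ∧
      !![a, b; c, d] * (wmat * !![a, b; c, d] * (wmat * wmat)) + wmat * !![a, b; c, d] * (wmat * wmat) * !![a, b; c, d] = 1 ∧
      !![a, b; c, d] * !![a, b; c, d] = 1) := by decide +kernel

/-- The three nonzero antilinear maps. -/
theorem layer_dichotomy {j : Matrix (Fin 2) (Fin 2) (ZMod 2)}
    (h : j + wmat * j * (wmat * wmat) + wmat * wmat * j * wmat = 0) :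
    j = 0 ∨ (j.det = 1 ∧ j * (wmat * j * (wmat * wmat)) + wmat * j * (wmat * wmat) * j = 1 ∧ j * j = 1) := by
  have e := Matrix.eta_fin_two j
  rw [e] at h ⊢
  rcases layer_dichotomy_aux _ _ _ _ h with h' | ⟨h1, h2, h3⟩
  · exact Or.inl h'
  · refine Or.inr ⟨?_, h2, h3⟩
    rw [Matrix.det_fin_two_of, CharTwo.sub_eq_add]; exact h1

theorem mat_two_nsmul (M : Matrix (Fin 2) (Fin 2) (ZMod 2)) : (2 : ℕ) • M = 0 := by
  ext i j
  rw [Matrix.smul_apply, Matrix.zero_apply, two_nsmul, CharTwo.add_self_eq_zero]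

section Ring

variable {a : ℕ}

/-- Reduction modulo two. -/
def red (ha : a ≠ 0) : ZMod (2 ^ a) →+* ZMod 2 := ZMod.castHom (dvd_pow_self 2 ha) (ZMod 2)

theorem red_natCast (ha : a ≠ 0) (n : ℕ) : red ha n = n := map_natCast _ n

theorem exists_two_mul (ha : a ≠ 0) {r : ZMod (2 ^ a)} (h : red ha r = 0) : ∃ r', r = (2 : ℕ) • r' := by
  rw [← ZMod.natCast_zmod_val r, red_natCast, ZMod.natCast_eq_zero_iff] at h
  obtain ⟨t, ht⟩ := h
  exact ⟨t, by rw [← ZMod.natCast_zmod_val r, ht, nsmul_eq_mul, Nat.cast_mul]⟩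

theorem smul_eq_zero_root {k : ℕ} (hk : k ≤ a) {r : ZMod (2 ^ a)} (h : (2 ^ k) • r = 0) :
    ∃ r', r = (2 ^ (a - k)) • r' := by
  rw [← ZMod.natCast_zmod_val r, nsmul_eq_mul, ← Nat.cast_mul, ZMod.natCast_eq_zero_iff] at h
  have e : 2 ^ k * 2 ^ (a - k) = 2 ^ a := by rw [← pow_add, Nat.add_sub_cancel' hk]
  obtain ⟨t, ht⟩ := (Nat.mul_dvd_mul_iff_left (Nat.pow_pos (by norm_num))).1 ((dvd_of_eq e).trans h)
  exact ⟨t, by rw [← ZMod.natCast_zmod_val r, ht, nsmul_eq_mul, Nat.cast_mul]⟩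

theorem red_of_smul_eq_zero (ha : a ≠ 0) {k : ℕ} (hk : k < a) {r : ZMod (2 ^ a)} (h : (2 ^ k) • r = 0) :
    red ha r = 0 := by
  obtain ⟨r', rfl⟩ := smul_eq_zero_root hk.le h
  rw [map_nsmul, show a - k = (a - k - 1) + 1 by omega, pow_succ, mul_nsmul', two_nsmul,
    CharTwo.add_self_eq_zero, smul_zero]

theorem two_pow_smul {M : Type*} [AddCommGroup M] [Module (ZMod (2 ^ a)) M] {k : ℕ} (hk : a ≤ k) (x : M) :
    (2 ^ k) • x = 0 := by
  rw [← Nat.cast_smul_eq_nsmul (ZMod (2 ^ a)), show (2 ^ k : ℕ) = 2 ^ a * 2 ^ (k - a) by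
    rw [← pow_add, Nat.add_sub_cancel' hk], Nat.cast_mul, ZMod.natCast_self, zero_mul, zero_smul]

/-- Reduction of matrices. -/
noncomputable def Red (ha : a ≠ 0) : Matrix (Fin 2) (Fin 2) (ZMod (2 ^ a)) →+* Matrix (Fin 2) (Fin 2) (ZMod 2) :=
  (red ha).mapMatrix

theorem Red_two (ha : a ≠ 0) (M : Matrix (Fin 2) (Fin 2) (ZMod (2 ^ a))) {k : ℕ} (hk : k ≠ 0) :
    Red ha ((2 ^ k) • M) = 0 := by
  rw [map_nsmul, show k = (k - 1) + 1 by omega, pow_succ, mul_nsmul', mat_two_nsmul, smul_zero]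

theorem exists_two_mat (ha : a ≠ 0) {M : Matrix (Fin 2) (Fin 2) (ZMod (2 ^ a))} (h : Red ha M = 0) :
    ∃ M' : Matrix (Fin 2) (Fin 2) (ZMod (2 ^ a)), M = (2 : ℕ) • M' := by
  have : ∀ i j, ∃ r', M i j = (2 : ℕ) • r' := fun i j => exists_two_mul ha (by
    have := congrArg (fun N : Matrix (Fin 2) (Fin 2) (ZMod 2) => N i j) h
    simpa [Red] using this)
  choose f hf using this
  exact ⟨Matrix.of f, by ext i j; exact hf i j⟩

theorem Red_of_smul_eq_zero (ha : a ≠ 0) {k : ℕ} (hk : k < a) {M : Matrix (Fin 2) (Fin 2) (ZMod (2 ^ a))}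
    (h : (2 ^ k) • M = 0) : Red ha M = 0 := by
  ext i j
  have := congrArg (fun N : Matrix (Fin 2) (Fin 2) (ZMod (2 ^ a)) => N i j) h
  simpa [Red] using red_of_smul_eq_zero ha hk this

theorem vec_root {k : ℕ} (hk : k ≤ a) {v : Fin 2 → ZMod (2 ^ a)} (h : (2 ^ k) • v = 0) :
    ∃ v' : Fin 2 → ZMod (2 ^ a), v = (2 ^ (a - k)) • v' := by
  choose f hf using fun i => smul_eq_zero_root hk (congrFun h i)
  exact ⟨f, funext hf⟩

theorem exists_inverse (ha : a ≠ 0) {V : Matrix (Fin 2) (Fin 2) (ZMod (2 ^ a))} (h : (Red ha V).det = 1) :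
    ∃ V', V' * V = 1 ∧ V * V' = 1 := by
  have h1 : red ha V.det = 1 := by rw [RingHom.map_det]; exact h
  have hu : IsUnit V.det := by
    rw [← ZMod.natCast_zmod_val V.det, red_natCast, ZMod.natCast_eq_one_iff_odd] at h1
    rw [← ZMod.natCast_zmod_val V.det]
    exact (ZMod.isUnit_iff_coprime _ _).2 (Nat.Coprime.pow_right _ (Nat.coprime_two_right.2 h1))
  exact ⟨V⁻¹, Matrix.nonsing_inv_mul V hu, Matrix.mul_nonsing_inv V hu⟩

end Ring

variable {X : Type*} [Group X] [Finite X] {S : Setup X} (M : Moved S)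

theorem Moved.a_ne : M.a ≠ 0 := by have := M.two_le; omega

/-- The second root. -/
noncomputable def Moved.d₁ : X := M.φ M.d₀

theorem Moved.d₁_mem : M.d₁ ∈ M.D := M.inv M.φ M.hφ _ M.d₀_mem

theorem Moved.d₁_pow : M.d₁ ^ 2 ^ (M.a - 1) = M.φ M.e := by rw [Moved.d₁, ← map_pow, M.d₀_pow]

theorem Moved.cast_pow {d : X} (hd : d ∈ M.D) (n : ℕ) : d ^ (n : ZMod (2 ^ M.a)).val = d ^ n := by
  rw [ZMod.val_natCast, ← pow_eq_pow_mod n (M.pow_eq hd)]

/-- The coordinates. -/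
noncomputable def Moved.f (v : Fin 2 → ZMod (2 ^ M.a)) : X := M.d₀ ^ (v 0).val * M.d₁ ^ (v 1).val

theorem Moved.f_mem (v : Fin 2 → ZMod (2 ^ M.a)) : M.f v ∈ M.D := mul_mem (pow_mem M.d₀_mem _) (pow_mem M.d₁_mem _)

theorem Moved.f_nat (i j : ℕ) : M.f ![(i : ZMod (2 ^ M.a)), (j : ZMod (2 ^ M.a))] = M.d₀ ^ i * M.d₁ ^ j := by
  simp only [Moved.f, Matrix.cons_val_zero, Matrix.cons_val_one]
  rw [M.cast_pow M.d₀_mem, M.cast_pow M.d₁_mem]

theorem Moved.f_add (u v : Fin 2 → ZMod (2 ^ M.a)) : M.f (u + v) = M.f u * M.f v := by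
  have hc : ∀ i j, Commute (M.d₁ ^ i) (M.d₀ ^ j) := fun i j =>
    (show Commute M.d₁ M.d₀ from M.comm _ M.d₁_mem _ M.d₀_mem).pow_pow i j
  have h : ∀ d ∈ M.D, ∀ r s : ZMod (2 ^ M.a), d ^ (r + s).val = d ^ r.val * d ^ s.val := fun d hd r s => by
    rw [ZMod.val_add, ← pow_eq_pow_mod _ (M.pow_eq hd), pow_add]
  rw [Moved.f, Moved.f, Moved.f, Pi.add_apply, Pi.add_apply, h _ M.d₀_mem, h _ M.d₁_mem]
  exact (hc _ _).symm.mul_mul_mul_comm _ _

theorem Moved.f_zero : M.f 0 = 1 := by simp [Moved.f]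

theorem Moved.f_nsmul (n : ℕ) (v : Fin 2 → ZMod (2 ^ M.a)) : M.f (n • v) = M.f v ^ n := by
  induction n with
  | zero => rw [zero_smul, M.f_zero, pow_zero]
  | succ n ih => rw [succ_nsmul, M.f_add, ih, pow_succ]

theorem Moved.f_surj {x : X} (hx : x ∈ M.D) : ∃ v, M.f v = x := by
  obtain ⟨i, j, h⟩ := M.span hx
  exact ⟨_, (M.f_nat i j).trans h.symm⟩

theorem Moved.indep {i j : ℕ} : ∀ k, k ≤ M.a → M.d₀ ^ i * M.d₁ ^ j = 1 → 2 ^ k ∣ i ∧ 2 ^ k ∣ j := by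
  intro k
  induction k with
  | zero => intro _ _; simp
  | succ k ih =>
    intro hk h
    obtain ⟨⟨i', hi⟩, ⟨j', hj⟩⟩ := ih (by omega) h
    have hpow := congrArg (· ^ 2 ^ (M.a - 1 - k)) h
    have hN : 2 ^ k * 2 ^ (M.a - 1 - k) = 2 ^ (M.a - 1) := by rw [← pow_add]; congr 1; omega
    simp only [one_pow] at hpow
    rw [((show Commute M.d₀ M.d₁ from M.comm _ M.d₀_mem _ M.d₁_mem).pow_pow i j).mul_pow, ← pow_mul, ← pow_mul,
      hi, hj, mul_right_comm _ i', mul_right_comm _ j', hN, pow_mul, pow_mul, M.d₀_pow, M.d₁_pow] at hpow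
    obtain ⟨-, -, -, -, he1, hef⟩ := M.three'
    have f2 : (M.φ M.e) ^ 2 = 1 := by rw [← map_pow, M.he2, map_one]
    have f1 : M.φ M.e ≠ 1 := fun h => he1 (M.φ.map_eq_one_iff.1 h)
    rcases Nat.even_or_odd i' with ⟨s, rfl⟩ | ⟨s, rfl⟩ <;> rcases Nat.even_or_odd j' with ⟨t, rfl⟩ | ⟨t, rfl⟩ <;>
      simp only [← two_mul, pow_succ, pow_mul, M.he2, f2, one_pow, one_mul, mul_one] at hpow
    · exact ⟨⟨s, by rw [hi]; ring⟩, ⟨t, by rw [hj]; ring⟩⟩
    · exact absurd hpow f1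
    · exact absurd hpow he1
    · exact absurd hpow hef

theorem Moved.f_inj : Function.Injective M.f := by
  intro u v h
  have h0 : M.f (u - v) = 1 := by
    have := M.f_add (u - v) v
    rw [sub_add_cancel, h] at this
    exact mul_eq_right.1 this.symm
  have key := M.indep M.a le_rfl (i := ((u - v) 0).val) (j := ((u - v) 1).val) h0
  rw [← sub_eq_zero]
  funext i
  have hi : 2 ^ M.a ∣ ((u - v) i).val := by fin_cases i; exacts [key.1, key.2]
  rw [Pi.zero_apply, ← ZMod.natCast_zmod_val ((u - v) i), ZMod.natCast_eq_zero_iff]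
  exact hi

/-- The matrix of an endomorphism preserving `D`. -/
noncomputable def Moved.mat (h : X →* X) (hD : ∀ x ∈ M.D, h x ∈ M.D) :
    Matrix (Fin 2) (Fin 2) (ZMod (2 ^ M.a)) :=
  LinearMap.toMatrix' (AddMonoidHom.toZModLinearMap (2 ^ M.a)
    (AddMonoidHom.mk' (fun v : Fin 2 → ZMod (2 ^ M.a) => (M.f_surj (hD _ (M.f_mem v))).choose)
      (fun u v => M.f_inj (by
        rw [(M.f_surj (hD _ (M.f_mem (u + v)))).choose_spec, M.f_add (Exists.choose _),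
          (M.f_surj (hD _ (M.f_mem u))).choose_spec, (M.f_surj (hD _ (M.f_mem v))).choose_spec,
          M.f_add, map_mul]))))

theorem Moved.mat_spec (h : X →* X) (hD : ∀ x ∈ M.D, h x ∈ M.D) (v : Fin 2 → ZMod (2 ^ M.a)) :
    M.f (M.mat h hD *ᵥ v) = h (M.f v) := by
  rw [Moved.mat, ← Matrix.toLin'_apply, Matrix.toLin'_toMatrix']
  exact (M.f_surj (hD _ (M.f_mem v))).choose_spec

theorem Moved.mat_ext {P Q : Matrix (Fin 2) (Fin 2) (ZMod (2 ^ M.a))} (h : ∀ v, M.f (P *ᵥ v) = M.f (Q *ᵥ v)) :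
    P = Q :=
  Matrix.toLin'.injective (LinearMap.ext fun v => by rw [Matrix.toLin'_apply, Matrix.toLin'_apply]; exact M.f_inj (h v))

theorem Moved.Red_ext {P Q : Matrix (Fin 2) (Fin 2) (ZMod (2 ^ M.a))}
    (h : ∀ v, M.f (P *ᵥ v) ^ 2 ^ (M.a - 1) = M.f (Q *ᵥ v) ^ 2 ^ (M.a - 1)) : Red M.a_ne P = Red M.a_ne Q := by
  have h0 : (2 ^ (M.a - 1)) • (P - Q) = 0 := by
    refine M.mat_ext fun v => ?_
    rw [Matrix.zero_mulVec, Matrix.smul_mulVec, Matrix.sub_mulVec, smul_sub]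
    congr 1
    rw [sub_eq_zero]
    exact M.f_inj (by rw [M.f_nsmul, M.f_nsmul, h v])
  have := Red_of_smul_eq_zero M.a_ne (by have := M.two_le; omega) h0
  rwa [map_sub, sub_eq_zero] at this

theorem Moved.conj_D (x : X) : ∀ d ∈ M.D, (MulAut.conj x).toMonoidHom d ∈ M.D :=
  fun d hd => M.normal.conj_mem d hd x

theorem Moved.aut_D (ψ : S.A) : ∀ d ∈ M.D, (ψ : MulAut X).toMonoidHom d ∈ M.D :=
  fun d hd => M.inv ψ ψ.2 d hd

/-- The action of the group. -/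
noncomputable def Moved.ρ : X →* Matrix (Fin 2) (Fin 2) (ZMod (2 ^ M.a)) where
  toFun x := M.mat (MulAut.conj x).toMonoidHom (M.conj_D x)
  map_one' := M.mat_ext fun v => by rw [M.mat_spec, Matrix.one_mulVec]; simp
  map_mul' x y := M.mat_ext fun v => by
    rw [← Matrix.mulVec_mulVec, M.mat_spec, M.mat_spec, M.mat_spec]
    simp [mul_assoc]

theorem Moved.ρ_spec (x : X) (v : Fin 2 → ZMod (2 ^ M.a)) : M.f (M.ρ x *ᵥ v) = x * M.f v * x⁻¹ :=
  M.mat_spec (MulAut.conj x).toMonoidHom (M.conj_D x) v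

theorem Moved.ρ_eq_one {x : X} (h : M.ρ x = 1) : x ∈ M.D :=
  M.centralizer_le (Subgroup.mem_centralizer_iff.2 fun d hd => by
    obtain ⟨v, rfl⟩ := M.f_surj hd
    have := M.ρ_spec x v
    rw [h, Matrix.one_mulVec] at this
    calc M.f v * x = x * M.f v * x⁻¹ * x := by rw [← this]
      _ = _ := by simp)

theorem Moved.ρ_of_mem {x : X} (h : x ∈ M.D) : M.ρ x = 1 :=
  M.mat_ext fun v => by
    rw [M.ρ_spec, Matrix.one_mulVec, M.comm x h _ (M.f_mem v), mul_inv_cancel_right]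

theorem Moved.Red_ρ (x : X) : Red M.a_ne (M.ρ x) = 1 := by
  rw [← map_one (Red M.a_ne)]
  refine M.Red_ext fun v => ?_
  rw [M.ρ_spec, Matrix.one_mulVec, conj_pow,
    Subgroup.mem_center_iff.1 (M.E_central (M.N_E (M.f_mem v))) x, mul_inv_cancel_right]

/-- The action of the automorphisms. -/
noncomputable def Moved.σ : S.A →* Matrix (Fin 2) (Fin 2) (ZMod (2 ^ M.a)) where
  toFun ψ := M.mat (ψ : MulAut X).toMonoidHom (M.aut_D ψ)
  map_one' := M.mat_ext fun v => by rw [M.mat_spec, Matrix.one_mulVec]; simp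
  map_mul' x y := M.mat_ext fun v => by
    rw [← Matrix.mulVec_mulVec, M.mat_spec, M.mat_spec, M.mat_spec]
    simp

theorem Moved.σ_spec (ψ : S.A) (v : Fin 2 → ZMod (2 ^ M.a)) : M.f (M.σ ψ *ᵥ v) = (ψ : MulAut X) (M.f v) :=
  M.mat_spec (ψ : MulAut X).toMonoidHom (M.aut_D ψ) v

theorem Moved.ρ_equiv (ψ : S.A) (x : X) : M.ρ ((ψ : MulAut X) x) = M.σ ψ * M.ρ x * M.σ ψ⁻¹ :=
  M.mat_ext fun v => by
    rw [M.ρ_spec, ← Matrix.mulVec_mulVec, ← Matrix.mulVec_mulVec, M.σ_spec, M.ρ_spec, M.σ_spec]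
    simp

theorem Moved.Red_φ : Red M.a_ne (M.σ ⟨M.φ, M.hφ⟩) = wmat := by
  have hw : wmat = Red M.a_ne !![0, 1; 1, 1] := by
    ext i j; fin_cases i <;> fin_cases j <;> simp [Red, wmat]
  rw [hw]
  refine M.Red_ext fun v => ?_
  have hv : v = ![((v 0).val : ZMod (2 ^ M.a)), ((v 1).val : ZMod (2 ^ M.a))] := by
    funext i; fin_cases i <;> simp
  rw [hv]
  generalize (v 0).val = i
  generalize (v 1).val = j
  rw [M.σ_spec, M.f_nat, show !![0, 1; 1, 1] *ᵥ ![(i : ZMod (2 ^ M.a)), (j : ZMod (2 ^ M.a))] =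
    ![((j : ℕ) : ZMod (2 ^ M.a)), ((i + j : ℕ) : ZMod (2 ^ M.a))] by
      funext k; fin_cases k <;> simp [Matrix.mulVec, dotProduct, Fin.sum_univ_two], M.f_nat]
  have c1 : Commute M.d₀ M.d₁ := M.comm _ M.d₀_mem _ M.d₁_mem
  obtain ⟨hff, -, -, -, -, -⟩ := M.three'
  have c2 : Commute M.e (M.φ M.e) := M.comm _ M.he _ (M.inv M.φ M.hφ _ M.he)
  show M.φ (M.d₀ ^ i * M.d₁ ^ j) ^ _ = _
  rw [← map_pow, (c1.pow_pow i j).mul_pow, (c1.pow_pow j (i + j)).mul_pow, ← pow_mul, ← pow_mul, ← pow_mul, ← pow_mul,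
    mul_comm i, mul_comm j, mul_comm (i + j), pow_mul, pow_mul, pow_mul, pow_mul, M.d₀_pow, M.d₁_pow, map_mul,
    map_pow, map_pow, hff, c2.mul_pow, pow_add, ← mul_assoc, ← mul_assoc]
  rw [(c2.pow_pow j i).symm.eq]

theorem Moved.Red_σ (ψ : S.A) : Red M.a_ne (M.σ ψ) = 1 ∨ Red M.a_ne (M.σ ψ) = wmat ∨ Red M.a_ne (M.σ ψ) = wmat * wmat := by
  have hcase := act_power S M.E_facts.2.2.1 M.E_facts.2.2.2 M.E_facts.2.1 M.hφ M.eE M.hm ψ.2
  rcases hcase with h | h | h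
  · refine Or.inl ?_
    rw [← map_one (Red M.a_ne)]
    refine M.Red_ext fun v => ?_
    rw [M.σ_spec, Matrix.one_mulVec, ← map_pow, h _ (M.N_E (M.f_mem v))]
  · refine Or.inr (Or.inl ?_)
    rw [← M.Red_φ]
    refine M.Red_ext fun v => ?_
    rw [M.σ_spec, M.σ_spec, ← map_pow, h _ (M.N_E (M.f_mem v)), map_pow]
  · refine Or.inr (Or.inr ?_)
    rw [← M.Red_φ, ← map_mul, ← map_mul]
    refine M.Red_ext fun v => ?_
    rw [M.σ_spec, M.σ_spec, ← map_pow, h _ (M.N_E (M.f_mem v))]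
    simp

theorem Moved.σ_mul_inv (ψ : S.A) : M.σ ψ * M.σ ψ⁻¹ = 1 := by rw [← map_mul, mul_inv_cancel, map_one]

theorem Moved.Red_σ_inv (ψ : S.A) :
    (Red M.a_ne (M.σ ψ) = 1 ∧ Red M.a_ne (M.σ ψ⁻¹) = 1) ∨
    (Red M.a_ne (M.σ ψ) = wmat ∧ Red M.a_ne (M.σ ψ⁻¹) = wmat * wmat) ∨
    (Red M.a_ne (M.σ ψ) = wmat * wmat ∧ Red M.a_ne (M.σ ψ⁻¹) = wmat) := by
  have h := congrArg (Red M.a_ne) (M.σ_mul_inv ψ)
  rw [map_mul, map_one] at h
  have h3 : wmat * (wmat * wmat) = 1 := by rw [← mul_assoc]; exact wmat_cube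
  rcases M.Red_σ ψ with e | e | e <;> rw [e] at h ⊢
  · rw [one_mul] at h
    exact Or.inl ⟨rfl, h⟩
  · refine Or.inr (Or.inl ⟨rfl, ?_⟩)
    have := congrArg (fun z => wmat * wmat * z) h
    simp only [← mul_assoc, wmat_cube, one_mul, mul_one] at this
    exact this
  · refine Or.inr (Or.inr ⟨rfl, ?_⟩)
    have := congrArg (fun z => wmat * z) h
    simp only [← mul_assoc, wmat_cube, one_mul, mul_one] at this
    exact this

end Cfsg.Agent.ScnThreeTwo
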