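/-
Special 2-groups without normal `E₈` having a fixed-point-free group of odd automorphisms modulo the centre.
-/
import Mathlib
import Cfsg.Agent.Lib.ScnThreeTwo.Basic
import Cfsg.Agent.Lib.FGStruct.ClassTwoRank
import Cfsg.Agent.Lib.LinearBlock.MonThree
import Cfsg.Agent.Lib.LocalEven.Frattini
import Cfsg.Agent.Lib.Solvable.NilpotentFrattini

set_option autoImplicit false
set_option linter.style.haveILetI false

namespace Cfsg.Agent.ScnThreeTwo

open scoped commutatorElement

variable {X : Type*} [Group X] [Finite X] (S : Setup X)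

/-- The hypotheses of the class two case. -/
structure Two (X : Type*) [Group X] : Prop where
  ne : ∃ a b : X, a * b ≠ b * a
  zsq : ∀ z ∈ Subgroup.center X, z ^ 2 = 1
  sq : ∀ x : X, x ^ 2 ∈ Subgroup.center X
  comm : commutator X = Subgroup.center X

/-- Quadratic values. -/
noncomputable def qv (v : X ⧸ Subgroup.center X) : X := v.out ^ 2

variable {S} (T : Two X)
include T

omit [Finite X] in
theorem Two.mem (x y : X) : ⁅x, y⁆ ∈ Subgroup.center X := by
  rw [← T.comm, commutator_def]
  exact Subgroup.commutator_mem_commutator trivial trivial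

omit [Finite X] in
theorem Two.mul_right (z a b : X) : ⁅z, a * b⁆ = ⁅z, a⁆ * ⁅z, b⁆ := by
  have h := Subgroup.mem_center_iff.1 (T.mem z b) a
  calc ⁅z, a * b⁆ = ⁅z, a⁆ * (a * ⁅z, b⁆ * a⁻¹) := by simp [commutatorElement_def, mul_assoc]
    _ = _ := by rw [h, mul_inv_cancel_right]

omit [Finite X] in
theorem Two.mul_left (a b z : X) : ⁅a * b, z⁆ = ⁅a, z⁆ * ⁅b, z⁆ := by
  have h := Subgroup.mem_center_iff.1 (T.mem b z) a
  calc ⁅a * b, z⁆ = (a * ⁅b, z⁆ * a⁻¹) * ⁅a, z⁆ := by simp [commutatorElement_def, mul_assoc]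
    _ = _ := by rw [h, mul_inv_cancel_right, (Subgroup.mem_center_iff.1 (T.mem b z) _).symm]

omit [Finite X] in
theorem Two.sq_mul (x y : X) : (x * y) ^ 2 = x ^ 2 * y ^ 2 * ⁅y, x⁆ := by
  have h : y * x = x * y * ⁅y, x⁆ := by
    rw [Subgroup.mem_center_iff.1 (T.mem y x) (x * y)]; simp [commutatorElement_def, mul_assoc]
  rw [pow_two, pow_two, pow_two]
  calc x * y * (x * y) = x * (y * x) * y := by simp [mul_assoc]
    _ = x * (x * y * ⁅y, x⁆) * y := by rw [h]
    _ = x * x * y * (⁅y, x⁆ * y) := by simp [mul_assoc]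
    _ = x * x * y * (y * ⁅y, x⁆) := by rw [Subgroup.mem_center_iff.1 (T.mem y x) y]
    _ = _ := by simp [mul_assoc]

omit [Finite X] in
theorem Two.center_comm (z x : X) (hz : z ∈ Subgroup.center X) : ⁅z, x⁆ = 1 :=
  commutatorElement_eq_one_iff_mul_comm.2 (Subgroup.mem_center_iff.1 hz x).symm

omit [Finite X] in
theorem Two.sq_congr {x y : X} (h : x⁻¹ * y ∈ Subgroup.center X) : y ^ 2 = x ^ 2 := by
  obtain ⟨z, hz, rfl⟩ : ∃ z ∈ Subgroup.center X, y = x * z := ⟨_, h, by simp⟩
  rw [T.sq_mul, T.zsq z hz, T.center_comm z x hz, mul_one, mul_one]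

/-- An element fixed by all the automorphisms modulo the centre is central. -/
theorem Two.fixed (S : Setup X) {x : X} (h : ∀ φ ∈ S.A, x⁻¹ * φ x ∈ Subgroup.center X) :
    x ∈ Subgroup.center X := by
  classical
  letI : CommGroup (X ⧸ Subgroup.center X) :=
    { (inferInstance : Group (X ⧸ Subgroup.center X)) with
      mul_comm := fun a b => by
        induction a using QuotientGroup.induction_on with | _ a => ?_
        induction b using QuotientGroup.induction_on with | _ b => ?_
        refine (QuotientGroup.eq).2 ?_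
        have := T.mem b⁻¹ a⁻¹
        simpa [commutatorElement_def, mul_assoc] using this }
  haveI : Finite S.A := Nat.finite_of_card_ne_zero (fun h => by have := S.hA; rw [h] at this; simp at this)
  haveI := Fintype.ofFinite S.A
  let f : X →* X ⧸ Subgroup.center X :=
    ∏ φ : S.A, (QuotientGroup.mk' (Subgroup.center X)).comp (φ : MulAut X).toMonoidHom
  have hf : ∀ y, f y = ∏ φ : S.A, (((φ : MulAut X) y : X) : X ⧸ Subgroup.center X) := fun y => by
    simp [f, MonoidHom.finsetProd_apply]
  have h1 := hom_kill S f (fun φ hφ y => by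
    rw [hf, hf]
    exact Fintype.prod_equiv (Equiv.mulRight ⟨φ, hφ⟩) _ _ fun _ => rfl) x
  rw [hf] at h1
  have h2 : ∀ φ : S.A, (((φ : MulAut X) x : X) : X ⧸ Subgroup.center X) = x :=
    fun φ => (QuotientGroup.eq.2 (h φ φ.2)).symm
  rw [Finset.prod_congr rfl fun φ _ => h2 φ, Finset.prod_const, Finset.card_univ, ← Nat.card_eq_fintype_card] at h1
  obtain ⟨m, hm⟩ := S.hA
  have h3 : (x : X ⧸ Subgroup.center X) ^ 2 = 1 := by
    rw [← QuotientGroup.mk_pow, QuotientGroup.eq_one_iff]; exact T.sq x
  rw [hm, pow_succ, pow_mul, h3, one_pow, one_mul] at h1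
  exact (QuotientGroup.eq_one_iff x).1 h1

omit [Finite X] in
theorem Two.q_mk (x : X) : qv (x : X ⧸ Subgroup.center X) = x ^ 2 :=
  T.sq_congr (QuotientGroup.eq.1 (QuotientGroup.out_eq' (x : X ⧸ Subgroup.center X)).symm)

/-- A totally anisotropic quotient is small. -/
theorem Two.card_quot_le (S : Setup X) {K N : Subgroup X} (hN : Subgroup.center X ≤ N) (hNK : N ≤ K)
    (hq : ∀ a ∈ K, ∀ b ∈ N, (a * b) ^ 2 = a ^ 2) (hK : ∀ a ∈ K, a ^ 2 = 1 → a ∈ N)
    (hNc : ∀ a ∈ K, ∀ b ∈ N, ⁅a, b⁆ = 1) :
    Nat.card K ≤ Nat.card (Subgroup.center X) ^ 2 * Nat.card N := by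
  classical
  set M := N.subgroupOf K
  letI : CommGroup ↥(Subgroup.center X) :=
    { (inferInstance : Group ↥(Subgroup.center X)) with
      mul_comm := fun u w => Subtype.ext (Subgroup.mem_center_iff.1 w.2 u.1) }
  haveI hM : M.Normal := ⟨fun n hn g => by
    rw [Subgroup.mem_subgroupOf] at hn ⊢
    have : (g : X) * n * (g : X)⁻¹ = n := by
      rw [← mul_inv_eq_one, ← hNc g g.2 n hn, commutatorElement_def]
    simpa [this] using hn⟩
  letI : CommGroup (K ⧸ M) :=
    { (inferInstance : Group (K ⧸ M)) with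
      mul_comm := fun a b => by
        induction a using QuotientGroup.induction_on with | _ a => ?_
        induction b using QuotientGroup.induction_on with | _ b => ?_
        refine (QuotientGroup.eq).2 ?_
        rw [Subgroup.mem_subgroupOf]
        have := hN (T.mem (b : X)⁻¹ (a : X)⁻¹)
        simpa [commutatorElement_def, mul_assoc] using this }
  let q : K ⧸ M → ↥(Subgroup.center X) := fun v => ⟨((v.out : K) : X) ^ 2, T.sq _⟩
  have hqm : ∀ a : K, q (a : K ⧸ M) = ⟨(a : X) ^ 2, T.sq _⟩ := by
    intro a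
    refine Subtype.ext ?_
    have h := QuotientGroup.eq.1 (QuotientGroup.out_eq' (a : K ⧸ M))
    rw [Subgroup.mem_subgroupOf] at h
    have := hq _ ((a : K ⧸ M).out).2 _ h
    simp only [Subgroup.coe_mul, InvMemClass.coe_inv, mul_inv_cancel_left] at this
    exact this.symm
  let cc : K → (K →* ↥(Subgroup.center X)) := fun y =>
    { toFun := fun x => ⟨⁅(y : X), (x : X)⁆, T.mem _ _⟩
      map_one' := Subtype.ext (by simp)
      map_mul' := fun a b => Subtype.ext (T.mul_right _ _ _) }
  let c : K ⧸ M → (K ⧸ M →* ↥(Subgroup.center X)) := fun v => QuotientGroup.lift M (cc v.out) (fun n hn => by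
    rw [MonoidHom.mem_ker]
    exact Subtype.ext (hNc _ (Subtype.prop _) _ (Subgroup.mem_subgroupOf.1 hn)))
  obtain ⟨m, hm⟩ := IsPGroup.iff_card.1 ((S.hX.to_subgroup K).to_quotient M)
  obtain ⟨l, hl⟩ := IsPGroup.iff_card.1 (S.hX.to_subgroup (Subgroup.center X))
  have hml : m ≤ 2 * l := ClassTwoRank.card_le_of_anisotropic
    (fun y : ↥(Subgroup.center X) => Subtype.ext (T.zsq _ y.2)) hm hl q c (fun u v => by
      have h1 : u * v = ((u.out * v.out : K) : K ⧸ M) := by
        rw [QuotientGroup.mk_mul, QuotientGroup.out_eq', QuotientGroup.out_eq']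
      have h2 : c v u = ⟨⁅(v.out : X), (u.out : X)⁆, T.mem _ _⟩ := by
        conv_lhs => rw [← QuotientGroup.out_eq' u]
        exact QuotientGroup.lift_mk _ _ _
      rw [h1, hqm, h2]
      exact Subtype.ext (T.sq_mul _ _))
    (by rw [show (1 : K ⧸ M) = ((1 : K) : K ⧸ M) from rfl, hqm]; exact Subtype.ext (by simp))
    (fun v hv => by
      induction v using QuotientGroup.induction_on with | _ a => ?_
      rw [hqm] at hv
      refine (QuotientGroup.eq_one_iff a).2 (Subgroup.mem_subgroupOf.2 (hK _ a.2 ?_))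
      exact congrArg Subtype.val hv)
  rw [Subgroup.card_eq_card_quotient_mul_card_subgroup M, hm,
    Nat.card_congr (Subgroup.subgroupOfEquivOfLe hNK).toEquiv, hl, ← pow_mul, mul_comm l 2]
  exact Nat.mul_le_mul_right _ (Nat.pow_le_pow_right (by norm_num) hml)

omit [Finite X] in
theorem Two.auto_center (φ : MulAut X) {z : X} (hz : z ∈ Subgroup.center X) : φ z ∈ Subgroup.center X :=
  Subgroup.mem_center_iff.2 fun g => by
    obtain ⟨g', rfl⟩ := φ.surjective g
    rw [← map_mul, ← map_mul, Subgroup.mem_center_iff.1 hz]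

omit [Finite X] in
/-- The induced map. -/
theorem Two.mk_congr (φ : MulAut X) {x y : X} (h : (x : X ⧸ Subgroup.center X) = y) :
    ((φ x : X) : X ⧸ Subgroup.center X) = φ y :=
  QuotientGroup.eq.2 (by rw [← map_inv, ← map_mul]; exact T.auto_center φ (QuotientGroup.eq.1 h))

/-- With at most eight cosets of the centre the automorphisms are transitive on the nontrivial ones. -/
theorem Two.transitive (S : Setup X) (h8 : Nat.card (X ⧸ Subgroup.center X) ≤ 8)
    {x y : X} (hx : x ∉ Subgroup.center X) (hy : y ∉ Subgroup.center X) :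
    ∃ φ ∈ S.A, (φ x)⁻¹ * y ∈ Subgroup.center X := by
  classical
  letI : MulAction S.A (X ⧸ Subgroup.center X) :=
    { smul := fun φ v => (((φ : MulAut X) v.out : X) : X ⧸ Subgroup.center X)
      one_smul := fun v => QuotientGroup.out_eq' v
      mul_smul := fun φ ψ v => (T.mk_congr (φ : MulAut X) (QuotientGroup.out_eq' _)).symm }
  have hsmul : ∀ (φ : S.A) (a : X), φ • (a : X ⧸ Subgroup.center X) = (((φ : MulAut X) a : X) : X ⧸ Subgroup.center X) :=
    fun φ a => T.mk_congr (φ : MulAut X) (QuotientGroup.out_eq' _)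
  set N : Set (X ⧸ Subgroup.center X) := {v | v ≠ 1} with hN
  have hNc : N.ncard ≤ 7 := by
    have : N = (Set.univ : Set (X ⧸ Subgroup.center X)) \ {1} := by ext; simp [hN]
    rw [this, Set.ncard_sdiff_singleton_of_mem (Set.mem_univ _), Set.ncard_univ]; omega
  have horb : ∀ v : X ⧸ Subgroup.center X, v ≠ 1 →
      MulAction.orbit S.A v ⊆ N ∧ 3 ≤ (MulAction.orbit S.A v).ncard ∧ Odd (MulAction.orbit S.A v).ncard := by
    intro v hv
    have hodd : Odd (MulAction.orbit S.A v).ncard := by
      rw [← MulAction.index_stabilizer]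
      exact S.hA.of_dvd_nat (Subgroup.index_dvd_card _)
    refine ⟨?_, ?_, hodd⟩
    · rintro _ ⟨φ, rfl⟩ h
      apply hv
      calc v = φ⁻¹ • (φ • v) := (inv_smul_smul φ v).symm
        _ = φ⁻¹ • 1 := by rw [show φ • v = 1 from h]
        _ = 1 := by rw [← QuotientGroup.mk_one, hsmul, map_one]
    · rcases hodd with ⟨k, hk⟩
      rcases Nat.eq_zero_or_pos k with hk0 | hk0
      · exfalso
        rw [hk0] at hk
        obtain ⟨w, hw⟩ := Set.ncard_eq_one.1 hk
        apply hv
        induction v using QuotientGroup.induction_on with | _ a => ?_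
        refine (QuotientGroup.eq_one_iff a).2 (T.fixed S fun φ hφ => QuotientGroup.eq.1 ?_)
        rw [← hsmul ⟨φ, hφ⟩]
        have h1 := MulAction.mem_orbit_self (M := S.A) (a : X ⧸ Subgroup.center X)
        have h2 : (⟨φ, hφ⟩ : S.A) • (a : X ⧸ Subgroup.center X) ∈ MulAction.orbit S.A (a : X ⧸ Subgroup.center X) :=
          MulAction.mem_orbit _ _
        rw [hw, Set.mem_singleton_iff] at h1 h2
        exact h1.trans h2.symm
      · omega
  have hvne : ∀ a : X, a ∉ Subgroup.center X → (a : X ⧸ Subgroup.center X) ≠ 1 := fun a ha h =>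
    ha ((QuotientGroup.eq_one_iff a).1 h)
  have key : (y : X ⧸ Subgroup.center X) ∈ MulAction.orbit S.A (x : X ⧸ Subgroup.center X) := by
    by_contra hne
    obtain ⟨a1, a2, ⟨ka, a3⟩⟩ := horb _ (hvne x hx)
    obtain ⟨b1, b2, ⟨kb, b3⟩⟩ := horb _ (hvne y hy)
    have hdis : Disjoint (MulAction.orbit S.A (x : X ⧸ Subgroup.center X)) (MulAction.orbit S.A (y : X ⧸ Subgroup.center X)) := by
      rw [Set.disjoint_left]
      intro w hw hw'
      exact hne ((MulAction.orbit_eq_iff.2 hw).symm.trans (MulAction.orbit_eq_iff.2 hw') ▸ MulAction.mem_orbit_self _)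
    have hu := Set.ncard_union_eq hdis
    have hsub := Set.ncard_le_ncard (Set.union_subset a1 b1)
    -- the remaining point would be fixed
    set R := N \ (MulAction.orbit S.A (x : X ⧸ Subgroup.center X) ∪ MulAction.orbit S.A (y : X ⧸ Subgroup.center X)) with hR
    have hRc : R.ncard + (MulAction.orbit S.A (x : X ⧸ Subgroup.center X) ∪
        MulAction.orbit S.A (y : X ⧸ Subgroup.center X)).ncard = N.ncard :=
      Set.ncard_sdiff_add_ncard_of_subset (Set.union_subset a1 b1)
    rcases R.eq_empty_or_nonempty with hRe | ⟨w, hw⟩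
    · rw [hRe, Set.ncard_empty] at hRc
      have hall : Nat.card (X ⧸ Subgroup.center X) = N.ncard + 1 := by
        have : N = (Set.univ : Set (X ⧸ Subgroup.center X)) \ {1} := by ext; simp [hN]
        have hpos : 0 < Nat.card (X ⧸ Subgroup.center X) := Nat.card_pos
        rw [this, Set.ncard_sdiff_singleton_of_mem (Set.mem_univ _), Set.ncard_univ]; omega
      obtain ⟨d, hd⟩ := IsPGroup.iff_card.1 (S.hX.to_quotient (Subgroup.center X))
      have hd3 : d ≤ 3 := (Nat.pow_le_pow_iff_right (a := 2) (by norm_num)).1 (by rw [← hd]; exact h8)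
      interval_cases d <;> omega
    · obtain ⟨c1, c2, -⟩ := horb w hw.1
      have : MulAction.orbit S.A w ⊆ R := by
        intro u hu'
        refine ⟨c1 hu', ?_⟩
        have e := MulAction.orbit_eq_iff.2 hu'
        rintro (h | h)
        · exact hw.2 (Or.inl ((e.symm.trans (MulAction.orbit_eq_iff.2 h)) ▸ MulAction.mem_orbit_self w))
        · exact hw.2 (Or.inr ((e.symm.trans (MulAction.orbit_eq_iff.2 h)) ▸ MulAction.mem_orbit_self w))
      have := Set.ncard_le_ncard this
      omega
  obtain ⟨φ, hφ⟩ := key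
  exact ⟨φ, φ.2, QuotientGroup.eq.1 ((hsmul φ x).symm.trans hφ)⟩

omit [Finite X] in
/-- A constant quadratic map on at least seven points is impossible. -/
theorem Two.not_const {t : X} (h8 : 8 ≤ Nat.card (X ⧸ Subgroup.center X))
    (hq : ∀ x : X, x ∉ Subgroup.center X → x ^ 2 = t) : False := by
  haveI : Finite (X ⧸ Subgroup.center X) := Nat.finite_of_card_ne_zero (by omega)
  have ht : ∀ x y : X, x ∉ Subgroup.center X → y ∉ Subgroup.center X → x⁻¹ * y ∉ Subgroup.center X → ⁅y, x⁆ = t := by
    intro x y hx hy hxy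
    have hxy' : x * y ∉ Subgroup.center X := fun h => hxy (by
      have := mul_mem (inv_mem (T.sq x)) h
      simpa [pow_two, mul_assoc] using this)
    have h := T.sq_mul x y
    have t2 : t * t = 1 := by
      rw [← pow_two, ← hq x hx]; exact T.zsq _ (T.sq x)
    rw [hq _ hxy', hq x hx, hq y hy, t2, one_mul] at h
    exact h.symm
  obtain ⟨a, b, hab⟩ := T.ne
  have ha : a ∉ Subgroup.center X := fun h => hab (Subgroup.mem_center_iff.1 h b).symm
  have hb : b ∉ Subgroup.center X := fun h => hab (Subgroup.mem_center_iff.1 h a)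
  have hab' : b⁻¹ * a ∉ Subgroup.center X := fun h => hab (by
    have := Subgroup.mem_center_iff.1 h b
    have e : a = b * (b⁻¹ * a) := by simp
    calc a * b = b * (b⁻¹ * a * b) := by simp [mul_assoc]
      _ = b * (b * (b⁻¹ * a)) := by rw [this]
      _ = b * a := by rw [← e])
  have hc : ⁅a, b⁆ = t := ht b a hb ha hab'
  have ht1 : t ≠ 1 := fun h => hab (commutatorElement_eq_one_iff_mul_comm.1 (hc.trans h))
  -- a third independent element
  classical
  haveI := Fintype.ofFinite (X ⧸ Subgroup.center X)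
  obtain ⟨v, hv⟩ : ∃ v : X ⧸ Subgroup.center X, v ∉ ({1, (a : X ⧸ Subgroup.center X), (b : X ⧸ Subgroup.center X),
      ((a * b : X) : X ⧸ Subgroup.center X)} : Finset (X ⧸ Subgroup.center X)) := by
    by_contra hall
    push Not at hall
    have h1 := Finset.card_le_card (s := Finset.univ) fun v _ => hall v
    rw [Finset.card_univ, ← Nat.card_eq_fintype_card] at h1
    have h2 : ({1, (a : X ⧸ Subgroup.center X), (b : X ⧸ Subgroup.center X), ((a * b : X) : X ⧸ Subgroup.center X)} :
        Finset (X ⧸ Subgroup.center X)).card ≤ 4 := Finset.card_le_four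
    omega
  induction v using QuotientGroup.induction_on with | _ e => ?_
  simp only [Finset.mem_insert, Finset.mem_singleton, not_or] at hv
  obtain ⟨v1, va, vb, vab⟩ := hv
  have he : e ∉ Subgroup.center X := fun h => v1 ((QuotientGroup.eq_one_iff e).2 h)
  have hae : a * e ∉ Subgroup.center X := fun h => va (by
    refine (QuotientGroup.eq.2 ?_).symm
    have := mul_mem (inv_mem (T.sq a)) h
    simpa [pow_two, mul_assoc] using this)
  have k1 : ⁅e, b⁆ = t := ht b e hb he fun h => vb (QuotientGroup.eq.2 h).symm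
  have k2 : ⁅a * e, b⁆ = t := ht b (a * e) hb hae fun h => vab (by
    refine (QuotientGroup.eq.2 ?_).symm
    have h1 : b⁻¹ * a⁻¹ * e = b⁻¹ * (a ^ 2)⁻¹ * (a * e) := by simp [pow_two, mul_assoc]
    rw [_root_.mul_inv_rev, h1, Subgroup.mem_center_iff.1 (inv_mem (T.sq a)) b⁻¹, mul_assoc]
    exact mul_mem (inv_mem (T.sq a)) h)
  rw [T.mul_left, hc, k1] at k2
  exact ht1 (mul_eq_left.1 k2)

/-- Classification in the class two case. -/
theorem Two.classify (S : Setup X) :
    Nonempty (X ≃* QuaternionGroup 2) ∨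
      (Cfsg.IsSpecial 2 X ∧ Nat.card X = 64 ∧ Nat.card {x : X // orderOf x = 2} = 3 ∧
        ∀ x : X, orderOf x = 2 → x ∈ Subgroup.center X) ∨
      (Cfsg.IsExtraspecial 2 X ∧ Nat.card X = 32 ∧ Nat.card {x : X // orderOf x = 2} = 11) := by
  classical
  haveI : Fact (Nat.Prime 2) := ⟨Nat.prime_two⟩
  haveI : Group.IsNilpotent X := S.hX.isNilpotent
  have hspec : Cfsg.IsSpecial 2 X := by
    refine ⟨S.hX, le_antisymm ?_ ?_, T.comm⟩
    · exact LEFrattini.frattini_le (p := 2) (fun x y => T.mem x y) T.sq
    · rw [← T.comm]; exact SolvStruct.commutator_le_frattini X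
  obtain ⟨a, b, hab⟩ := T.ne
  have hab1 : ⁅a, b⁆ ≠ 1 := fun h => hab (commutatorElement_eq_one_iff_mul_comm.1 h)
  have hZel : Cfsg.IsElementaryAbelian 2 (Subgroup.center X) := ⟨inferInstance, T.zsq⟩
  have hZ4 : Nat.card (Subgroup.center X) ≤ 4 := S.hN8 _ inferInstance hZel
  obtain ⟨l, hl⟩ := IsPGroup.iff_card.1 (S.hX.to_subgroup (Subgroup.center X))
  obtain ⟨d, hd⟩ := IsPGroup.iff_card.1 (S.hX.to_quotient (Subgroup.center X))
  have hXc := Subgroup.card_eq_card_quotient_mul_card_subgroup (Subgroup.center X)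
  rw [hd, hl] at hXc
  have hl0 : l ≠ 0 := fun h => by
    rw [h, pow_zero, Subgroup.card_eq_one] at hl
    exact hab1 (Subgroup.mem_bot.1 (hl ▸ T.mem a b))
  have hl2 : l ≤ 2 := (Nat.pow_le_pow_iff_right (a := 2) (by norm_num)).1 (by rw [← hl]; exact hZ4)
  have hord : ∀ x : X, orderOf x = 2 ↔ x ^ 2 = 1 ∧ x ≠ 1 := fun x => by
    rw [orderOf_eq_prime_iff]
  have ha : a ∉ Subgroup.center X := fun h => hab (Subgroup.mem_center_iff.1 h b).symm
  have hb : b ∉ Subgroup.center X := fun h => hab (Subgroup.mem_center_iff.1 h a)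
  -- a constant quadratic map
  have hconst : d ≤ 3 → (∀ φ ∈ S.A, φ (a ^ 2) = a ^ 2) → ∀ x, x ∉ Subgroup.center X → x ^ 2 = a ^ 2 := by
    intro hd3 hfix x hx
    obtain ⟨φ, hφ, h⟩ := T.transitive S (by rw [hd]; exact (Nat.pow_le_pow_right (by norm_num) hd3).trans (le_refl 8)) ha hx
    rw [T.sq_congr h, ← map_pow, hfix φ hφ]
  interval_cases l
  · exact absurd rfl hl0
  · -- centre of order two
    rw [pow_one] at hl hXc
    have hz : ∀ φ ∈ S.A, ∀ z ∈ Subgroup.center X, φ z = z := by
      intro φ hφ z hz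
      by_contra h
      obtain ⟨-, -, hc, -⟩ := three S hZel hZ4 (fun ψ _ z hz => T.auto_center ψ hz) hφ hz h
      omega
    have hd2 : 2 ≤ d := by
      by_contra hlt
      push Not at hlt
      interval_cases d
      · rw [pow_zero, Nat.card_eq_one_iff_unique] at hd
        obtain ⟨hs, -⟩ := hd
        exact ha ((QuotientGroup.eq_one_iff a).1 (Subsingleton.elim _ _))
      · have h1 : (a : X ⧸ Subgroup.center X) = b := by
          haveI := Fintype.ofFinite (X ⧸ Subgroup.center X)
          by_contra h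
          have : ({1, (a : X ⧸ Subgroup.center X), (b : X ⧸ Subgroup.center X)} : Finset _).card = 3 := by
            rw [Finset.card_insert_of_notMem, Finset.card_pair h]
            simp [Ne.symm (show (a : X ⧸ Subgroup.center X) ≠ 1 from fun h => ha ((QuotientGroup.eq_one_iff a).1 h)),
              Ne.symm (show (b : X ⧸ Subgroup.center X) ≠ 1 from fun h => hb ((QuotientGroup.eq_one_iff b).1 h))]
          have h2 := Finset.card_le_univ ({1, (a : X ⧸ Subgroup.center X), (b : X ⧸ Subgroup.center X)} : Finset _)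
          rw [this, ← Nat.card_eq_fintype_card, hd] at h2
          norm_num at h2
        apply hab1
        have h3 : b = a * (a⁻¹ * b) := by simp
        rw [h3, T.mul_right, commutatorElement_self,
          commutatorElement_eq_one_iff_mul_comm.2 (Subgroup.mem_center_iff.1 (QuotientGroup.eq.1 h1) a), one_mul]
    by_cases hd2' : d = 2
    · left
      subst hd2'
      have hc := hconst (by norm_num) (fun φ hφ => hz φ hφ _ (T.sq a))
      have ha2 : a ^ 2 ≠ 1 := fun h => by
        have all : ∀ x : X, x ^ 2 = 1 := fun x => by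
          by_cases hx : x ∈ Subgroup.center X
          · exact T.zsq x hx
          · rw [hc x hx, h]
        have h' := T.sq_mul a b
        rw [all, all, all, one_mul, one_mul] at h'
        exact hab (commutatorElement_eq_one_iff_mul_comm.1 h'.symm).symm
      refine LBMon.q8_of_unique (by rw [hXc]; norm_num) (fun x => by
        rw [show 4 = 2 * 2 from rfl, pow_mul]; exact T.zsq _ (T.sq x)) ?_
      intro x y hx hy hx2 hy2
      have hin : ∀ w : X, w ^ 2 = 1 → w ∈ Subgroup.center X := fun w hw => by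
        by_contra h; exact ha2 ((hc w h).symm.trans hw)
      obtain ⟨u, v, -, huv⟩ := Nat.card_eq_two_iff.1 hl
      have hcase : ∀ w : Subgroup.center X, w = u ∨ w = v := fun w => by
        have : w ∈ ({u, v} : Set (Subgroup.center X)) := huv ▸ Set.mem_univ w
        simpa using this
      rcases hcase ⟨x, hin x hx2⟩ with h1 | h1 <;> rcases hcase ⟨y, hin y hy2⟩ with h2 | h2 <;>
        rcases hcase 1 with h3 | h3
      all_goals first
        | exact congrArg Subtype.val (h1.trans h2.symm)
        | exact absurd (congrArg Subtype.val (h1.trans h3.symm)) hx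
        | exact absurd (congrArg Subtype.val (h2.trans h3.symm)) hy
    right; right
    have hd4 : 4 ≤ d := by
      by_contra h
      have h3 : d = 3 := by omega
      exact T.not_const (by rw [hd, h3]; norm_num) (hconst h3.le fun φ hφ => hz φ hφ _ (T.sq a))
    -- a singular vector
    obtain ⟨v, hv2, hvZ⟩ : ∃ v : X, v ^ 2 = 1 ∧ v ∉ Subgroup.center X := by
      by_contra hno
      push Not at hno
      have := T.card_quot_le (K := ⊤) (N := Subgroup.center X) (S := S) le_rfl le_top
        (fun x _ z hz => T.sq_congr (by simpa using hz)) (fun x _ h => hno x h)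
        (fun x _ z hz => commutatorElement_eq_one_iff_mul_comm.2 (Subgroup.mem_center_iff.1 hz x))
      rw [Subgroup.card_top, hl, hXc] at this
      have : 2 ^ d ≤ 2 ^ 2 := Nat.le_of_mul_le_mul_right (by simpa using this) (by norm_num : 0 < 2)
      have := (Nat.pow_le_pow_iff_right (a := 2) (by norm_num)).1 this
      omega
    set K := Subgroup.centralizer ({v} : Set X) with hK
    have hKv : ∀ {x : X}, x ∈ K ↔ ⁅x, v⁆ = 1 := fun {x} => by
      rw [hK, Subgroup.mem_centralizer_singleton_iff, commutatorElement_eq_one_iff_mul_comm]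
    have hindex : Nat.card X ≤ 2 * Nat.card K := by
      let f : X →* Subgroup.center X :=
        { toFun := fun x => ⟨⁅x, v⁆, T.mem _ _⟩
          map_one' := Subtype.ext (by simp)
          map_mul' := fun x y => Subtype.ext (T.mul_left _ _ _) }
      have hker : f.ker = K := by
        ext x; rw [MonoidHom.mem_ker, hKv]; exact Subtype.ext_iff
      have h1 := f.ker.index_mul_card
      rw [Subgroup.index_ker, hker] at h1
      rw [← h1]
      exact Nat.mul_le_mul_right _ ((Subgroup.card_le_card_group f.range).trans_eq hl)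
    have hvK : v ∈ K := hKv.2 (commutatorElement_self v)
    set N := Subgroup.center X ⊔ Subgroup.zpowers v with hN
    have hNmem : ∀ {w : X}, w ∈ N ↔ w ∈ Subgroup.center X ∨ v⁻¹ * w ∈ Subgroup.center X := by
      intro w
      constructor
      · intro hw
        obtain ⟨z, hz', u, hu, rfl⟩ := Subgroup.mem_sup_of_normal_left.1 hw
        obtain ⟨k, rfl⟩ := Subgroup.mem_zpowers_iff.1 hu
        rcases Int.even_or_odd k with ⟨j, rfl⟩ | ⟨j, rfl⟩
        · left; rw [← two_mul, zpow_mul, zpow_ofNat, hv2, one_zpow, mul_one]; exact hz'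
        · right
          rw [zpow_add, zpow_mul, zpow_ofNat, hv2, one_zpow, one_mul, zpow_one,
            (Subgroup.mem_center_iff.1 hz' v).symm, inv_mul_cancel_left]
          exact hz'
      · rintro (h | h)
        · exact Subgroup.mem_sup_left h
        · rw [show w = v * (v⁻¹ * w) by simp]
          exact mul_mem (Subgroup.mem_sup_right (Subgroup.mem_zpowers v)) (Subgroup.mem_sup_left h)
    have hcz : ∀ x : X, ∀ z ∈ Subgroup.center X, ⁅x, z⁆ = 1 := fun x z hz =>
      commutatorElement_eq_one_iff_mul_comm.2 (Subgroup.mem_center_iff.1 hz x)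
    have hNK : N ≤ K := sup_le (fun z hz => hKv.2 (T.center_comm z v hz)) (Subgroup.zpowers_le.2 hvK)
    have hNcm : ∀ x ∈ K, ∀ w ∈ N, ⁅x, w⁆ = 1 := by
      intro x hx w hw
      rcases hNmem.1 hw with h | h
      · exact hcz x w h
      · rw [show w = v * (v⁻¹ * w) by simp, T.mul_right, hKv.1 hx, hcz x _ h, one_mul]
    have hNsq : ∀ w ∈ N, w ^ 2 = 1 := by
      intro w hw
      rcases hNmem.1 hw with h | h
      · exact T.zsq w h
      · rw [T.sq_congr h, hv2]
    have hKN : ∀ x ∈ K, x ^ 2 = 1 → x ∈ N := by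
      intro x hx hx2
      by_contra hxN
      set W := N ⊔ Subgroup.zpowers x with hW
      have hWK : W ≤ K := sup_le hNK (Subgroup.zpowers_le.2 hx)
      have hnn : ∀ u ∈ N, ∀ w ∈ N, u * w = w * u := fun u hu w hw =>
        commutatorElement_eq_one_iff_mul_comm.1 (hNcm u (hNK hu) w hw)
      have hcm : IsMulCommutative W := by
        rw [hW, Subgroup.zpowers_eq_closure, ← Subgroup.closure_eq N, ← Subgroup.closure_union]
        refine Subgroup.isMulCommutative_closure ?_
        rintro u (hu | hu) w (hw | hw)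
        · exact hnn u hu w hw
        · rw [Set.mem_singleton_iff.1 hw]
          exact (commutatorElement_eq_one_iff_mul_comm.1 (hNcm x hx u hu)).symm
        · rw [Set.mem_singleton_iff.1 hu]
          exact commutatorElement_eq_one_iff_mul_comm.1 (hNcm x hx w hw)
        · rw [Set.mem_singleton_iff] at hu hw; rw [hu, hw]
      have hsq : ∀ u ∈ W, u ^ 2 = 1 := by
        haveI := hcm
        have : ∀ u ∈ W, ∀ h : u ∈ W, (⟨u, h⟩ : W) ^ 2 = 1 → u ^ 2 = 1 := fun u _ h e => congrArg Subtype.val e
        intro u hu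
        have hle : W ≤ (Subgroup.closure {w : X | w ∈ W ∧ w ^ 2 = 1}) := sup_le
          (fun w hw => Subgroup.subset_closure ⟨Subgroup.mem_sup_left hw, hNsq w hw⟩)
          (Subgroup.zpowers_le.2 (Subgroup.subset_closure ⟨Subgroup.mem_sup_right (Subgroup.mem_zpowers x), hx2⟩))
        have hgen : ∀ u ∈ Subgroup.closure {w : X | w ∈ W ∧ w ^ 2 = 1}, u ^ 2 = 1 ∧ u ∈ W := by
          intro u hu
          induction hu using Subgroup.closure_induction with
          | mem w hw => exact ⟨hw.2, hw.1⟩
          | one => exact ⟨one_pow _, one_mem _⟩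
          | mul p r _ _ hp hr =>
            refine ⟨?_, mul_mem hp.2 hr.2⟩
            have : Commute p r := congrArg Subtype.val (mul_comm' (⟨p, hp.2⟩ : W) ⟨r, hr.2⟩)
            rw [this.mul_pow, hp.1, hr.1, one_mul]
          | inv p _ hp => exact ⟨by rw [inv_pow, hp.1, inv_one], inv_mem hp.2⟩
        exact (hgen u (hle hu)).1
      have hWn : W.Normal := ⟨fun w hw g => by
        rw [show g * w * g⁻¹ = ⁅g, w⁆ * w by simp [commutatorElement_def]]
        exact mul_mem (Subgroup.mem_sup_left (Subgroup.mem_sup_left (T.mem g w))) hw⟩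
      have h1 : Nat.card (Subgroup.center X) < Nat.card N := Set.ncard_lt_ncard
        (SetLike.coe_ssubset_coe.2 <| lt_of_le_of_ne le_sup_left fun h : Subgroup.center X = N =>
          hvZ (h ▸ Subgroup.mem_sup_right (Subgroup.mem_zpowers v)))
      have h2 : Nat.card N < Nat.card W := Set.ncard_lt_ncard
        (SetLike.coe_ssubset_coe.2 <| lt_of_le_of_ne le_sup_left fun h : N = W => hxN (h ▸ Subgroup.mem_sup_right (Subgroup.mem_zpowers x)))
      have h3 := S.hN8 W hWn ⟨hcm, hsq⟩
      obtain ⟨i, hi⟩ := IsPGroup.iff_card.1 (S.hX.to_subgroup N)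
      obtain ⟨j, hj⟩ := IsPGroup.iff_card.1 (S.hX.to_subgroup W)
      rw [hl, hi] at h1
      rw [hi, hj] at h2
      rw [hj] at h3
      have := (Nat.pow_lt_pow_iff_right (a := 2) (by norm_num)).1 (show 2 ^ 1 < 2 ^ i by simpa using h1)
      have := (Nat.pow_lt_pow_iff_right (a := 2) (by norm_num)).1 h2
      have := (Nat.pow_le_pow_iff_right (a := 2) (by norm_num)).1 (show 2 ^ j ≤ 2 ^ 2 from h3)
      omega
    have hNcard : Nat.card N ≤ 4 :=
      S.hN8 N ⟨fun w hw g => by
        rw [show g * w * g⁻¹ = ⁅g, w⁆ * w by simp [commutatorElement_def]]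
        exact mul_mem (Subgroup.mem_sup_left (T.mem g w)) hw⟩
        ⟨.of_setLike_mul_comm fun u hu w hw =>
          commutatorElement_eq_one_iff_mul_comm.1 (hNcm u (hNK hu) w hw), hNsq⟩
    have hKc : Nat.card K ≤ Nat.card (Subgroup.center X) ^ 2 * Nat.card N := T.card_quot_le (S := S) le_sup_left hNK
      (fun x hx w hw => by
        rw [T.sq_mul, hNsq w hw, mul_one, ← commutatorElement_inv, hNcm x hx w hw, inv_one, mul_one])
      hKN hNcm
    rw [hl] at hKc
    have hdle : d ≤ 4 := by
      have h : 2 ^ d * 2 ≤ 2 ^ 5 := by rw [← hXc]; calc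
        Nat.card X ≤ 2 * Nat.card K := hindex
        _ ≤ 2 ^ 5 := by omega
      have := (Nat.pow_le_pow_iff_right (a := 2) (by norm_num)).1 (show 2 ^ (d + 1) ≤ 2 ^ 5 by rw [pow_succ]; exact h)
      omega
    have hd4' : d = 4 := le_antisymm hdle hd4
    subst hd4'
    have hN4 : Nat.card N = 4 := by
      refine le_antisymm hNcard ?_
      by_contra h
      have : Nat.card X ≤ 2 * (2 ^ 2 * 3) := hindex.trans (by omega)
      rw [hXc] at this; norm_num at this
    have hKcard : Nat.card K = 16 := by
      obtain ⟨i, hi⟩ := IsPGroup.iff_card.1 (S.hX.to_subgroup K)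
      rw [hi] at hindex hKc ⊢
      rw [hXc] at hindex
      have h1 := (Nat.pow_le_pow_iff_right (a := 2) (by norm_num)).1 (show 2 ^ 4 ≤ 2 ^ i by norm_num at hindex ⊢; omega)
      have h2 := (Nat.pow_le_pow_iff_right (a := 2) (by norm_num)).1 (show 2 ^ i ≤ 2 ^ 4 by rw [hN4] at hKc; exact hKc)
      rw [le_antisymm h2 h1]; rfl
    refine ⟨⟨hspec, hl⟩, by rw [hXc]; norm_num, ?_⟩
    -- count
    set Sz : Set X := {x | x ^ 2 = 1} with hSz
    have hin : Sz ∩ (K : Set X) = (N : Set X) := by
      ext x
      exact ⟨fun h => hKN x h.2 h.1, fun h => ⟨hNsq x h, hNK h⟩⟩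
    have hout : ∀ x, x ∉ K → (x * v) ^ 2 = x ^ 2 * ⁅v, x⁆ ∧ ⁅v, x⁆ ≠ 1 := fun x hx => by
      refine ⟨by rw [T.sq_mul, hv2, mul_one], fun h => hx (hKv.2 ?_)⟩
      rw [← commutatorElement_inv, h, inv_one]
    have hbij : (Sz \ (K : Set X)).ncard = (Szᶜ \ (K : Set X)).ncard := by
      refine Set.ncard_congr (fun x _ => x * v) ?_ ?_ ?_
      · rintro x ⟨hx, hxK⟩
        refine ⟨fun h => ?_, fun h => hxK (by simpa using mul_mem h (inv_mem hvK))⟩
        have h' : (x * v) ^ 2 = 1 := h
        rw [(hout x hxK).1, show x ^ 2 = 1 from hx, one_mul] at h'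
        exact (hout x hxK).2 h'
      · intro x y _ _ h; exact mul_right_cancel h
      · rintro y ⟨hy, hyK⟩
        have hxK : y * v⁻¹ ∉ K := fun h => hyK (by simpa using mul_mem h hvK)
        refine ⟨y * v⁻¹, ⟨?_, hxK⟩, by simp⟩
        have hvi : v⁻¹ = v := inv_eq_of_mul_eq_one_right (by rw [← pow_two]; exact hv2)
        show (y * v⁻¹) ^ 2 = 1
        have hyK' : y ∉ K := hyK
        rw [hvi, (hout y hyK').1]
        obtain ⟨u, w, huw, hall⟩ := Nat.card_eq_two_iff.1 hl
        have hcase : ∀ p : Subgroup.center X, p = u ∨ p = w := fun p => by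
          have : p ∈ ({u, w} : Set (Subgroup.center X)) := hall ▸ Set.mem_univ p
          simpa using this
        have e : (⟨y ^ 2, T.sq y⟩ : Subgroup.center X) = ⟨⁅v, y⁆, T.mem v y⟩ := by
          have n1 : (⟨y ^ 2, T.sq y⟩ : Subgroup.center X) ≠ 1 := fun h => hy (congrArg Subtype.val h)
          have n2 : (⟨⁅v, y⁆, T.mem v y⟩ : Subgroup.center X) ≠ 1 := fun h => (hout y hyK').2 (congrArg Subtype.val h)
          rcases hcase 1 with h1 | h1 <;> rcases hcase ⟨y ^ 2, T.sq y⟩ with h2 | h2 <;>
            rcases hcase ⟨⁅v, y⁆, T.mem v y⟩ with h3 | h3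
          all_goals first | exact h2.trans h3.symm | exact absurd (h2.trans h1.symm) n1 | exact absurd (h3.trans h1.symm) n2
        rw [show y ^ 2 = ⁅v, y⁆ from congrArg Subtype.val e, ← pow_two]
        exact T.zsq _ (T.mem v y)
    have hKcs : (K : Set X).ncard = 16 := hKcard
    have hout16 : (Sz \ (K : Set X)).ncard + (Szᶜ \ (K : Set X)).ncard = 16 := by
      rw [← Set.ncard_union_eq (disjoint_compl_right.mono Set.sdiff_subset Set.sdiff_subset)]
      have : Sz \ (K : Set X) ∪ Szᶜ \ (K : Set X) = (K : Set X)ᶜ := by ext x; simp; tauto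
      rw [this, Set.ncard_compl, hKcs, hXc]; norm_num
    have hSc : Sz.ncard = 12 := by
      have := Set.ncard_inter_add_ncard_sdiff_eq_ncard Sz (K : Set X)
      rw [hin, show (N : Set X).ncard = 4 from hN4] at this
      omega
    have : Nat.card {x : X // orderOf x = 2} = (Sz \ {1}).ncard := by
      rw [← Nat.card_coe_set_eq]
      exact Nat.card_congr (Equiv.subtypeEquivRight fun x => by simp [hord, hSz])
    rw [this, Set.ncard_sdiff_singleton_of_mem (show (1 : X) ∈ Sz from one_pow 2), hSc]
  · -- centre a four-group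
    right; left
    rw [show (2 : ℕ) ^ 2 = 4 from rfl] at hl hXc
    have hin : ∀ x : X, x ^ 2 = 1 → x ∈ Subgroup.center X := fun x hx => by
      by_contra h
      exact small_ext S T.zsq le_rfl hl hx h fun z => T.mem z x
    have hd4 : d ≤ 4 := by
      have := T.card_quot_le (K := ⊤) (N := Subgroup.center X) (S := S) le_rfl le_top
        (fun x _ z hz => T.sq_congr (by simpa using hz)) (fun x _ h => hin x h)
        (fun x _ z hz => commutatorElement_eq_one_iff_mul_comm.2 (Subgroup.mem_center_iff.1 hz x))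
      rw [Subgroup.card_top, hl, hXc] at this
      have := Nat.le_of_mul_le_mul_right this (by norm_num : 0 < 4)
      exact (Nat.pow_le_pow_iff_right (a := 2) (by norm_num)).1 this
    have hd3 : 3 ≤ d := by
      by_contra hlt
      push Not at hlt
      -- all commutators lie in a group of order two
      haveI := Fintype.ofFinite (X ⧸ Subgroup.center X)
      have hcomm : ∀ g h : X, ⁅g, h⁆ ∈ Subgroup.zpowers ⁅a, b⁆ := by
        have hdist : ({1, (a : X ⧸ Subgroup.center X), (b : X ⧸ Subgroup.center X), ((a * b : X) : X ⧸ Subgroup.center X)} :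
            Finset (X ⧸ Subgroup.center X)).card = 4 := by
          have e1 : (a : X ⧸ Subgroup.center X) ≠ b := fun h => hab1 (by
            rw [show b = a * (a⁻¹ * b) by simp, T.mul_right, commutatorElement_self,
              commutatorElement_eq_one_iff_mul_comm.2 (Subgroup.mem_center_iff.1 (QuotientGroup.eq.1 h) a), one_mul])
          have e2 : (a : X ⧸ Subgroup.center X) ≠ 1 := fun h => ha ((QuotientGroup.eq_one_iff a).1 h)
          have e3 : (b : X ⧸ Subgroup.center X) ≠ 1 := fun h => hb ((QuotientGroup.eq_one_iff b).1 h)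
          have e4 : ((a * b : X) : X ⧸ Subgroup.center X) ≠ 1 := fun h => by
            have h1 := (QuotientGroup.eq_one_iff _).1 h
            apply hab1
            rw [show b = a⁻¹ * (a * b) by simp, T.mul_right,
              commutatorElement_eq_one_iff_mul_comm.2 (Commute.refl a).inv_right,
              commutatorElement_eq_one_iff_mul_comm.2 (Subgroup.mem_center_iff.1 h1 a), one_mul]
          rw [Finset.card_insert_of_notMem (by simp [Ne.symm e2, Ne.symm e3, -QuotientGroup.mk_mul, Ne.symm e4]),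
            Finset.card_insert_of_notMem (by simp [e1, e3]), Finset.card_pair (by
              intro h; rw [QuotientGroup.mk_mul] at h; exact e2 (mul_eq_right.1 h.symm))]
        have huniv : ∀ g : X, (g : X ⧸ Subgroup.center X) ∈ ({1, (a : X ⧸ Subgroup.center X), (b : X ⧸ Subgroup.center X),
            ((a * b : X) : X ⧸ Subgroup.center X)} : Finset (X ⧸ Subgroup.center X)) := by
          intro g
          rw [Finset.eq_univ_of_card ({1, (a : X ⧸ Subgroup.center X), (b : X ⧸ Subgroup.center X),
            ((a * b : X) : X ⧸ Subgroup.center X)} : Finset (X ⧸ Subgroup.center X)) (le_antisymm (Finset.card_le_univ _) (by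
            rw [hdist, ← Nat.card_eq_fintype_card, hd]
            exact (Nat.pow_le_pow_right (by norm_num) (show d ≤ 2 by omega)).trans (le_refl 4)))]
          exact Finset.mem_univ _
        have hC : Subgroup.zpowers ⁅a, b⁆ ≤ Subgroup.center X := Subgroup.zpowers_le.2 (T.mem a b)
        have hsplit : ∀ g : X, ∃ z ∈ Subgroup.center X, g = z ∨ g = a * z ∨ g = b * z ∨ g = a * b * z := by
          intro g
          have := huniv g
          simp only [Finset.mem_insert, Finset.mem_singleton, QuotientGroup.eq_one_iff] at this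
          rcases this with h | h | h | h
          · exact ⟨g, h, Or.inl rfl⟩
          · exact ⟨a⁻¹ * g, QuotientGroup.eq.1 h.symm, Or.inr (Or.inl (by simp))⟩
          · exact ⟨b⁻¹ * g, QuotientGroup.eq.1 h.symm, Or.inr (Or.inr (Or.inl (by simp)))⟩
          · exact ⟨(a * b)⁻¹ * g, QuotientGroup.eq.1 h.symm, Or.inr (Or.inr (Or.inr (by simp [mul_assoc])))⟩
        have hba : ⁅b, a⁆ ∈ Subgroup.zpowers ⁅a, b⁆ := by
          rw [← commutatorElement_inv a b]; exact inv_mem (Subgroup.mem_zpowers _)
        have hcz : ∀ x : X, ∀ z ∈ Subgroup.center X, ⁅x, z⁆ = 1 := fun x z hz =>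
          commutatorElement_eq_one_iff_mul_comm.2 (Subgroup.mem_center_iff.1 hz x)
        intro g h
        obtain ⟨z, hz, hg⟩ := hsplit g
        obtain ⟨w, hw, hh⟩ := hsplit h
        rcases hg with rfl | rfl | rfl | rfl <;> rcases hh with rfl | rfl | rfl | rfl <;>
          simp [T.mul_left, T.mul_right, T.center_comm _ _ hz, hcz _ _ hw, hba, Subgroup.mem_zpowers, mul_mem]
      have hle : Subgroup.center X ≤ Subgroup.zpowers ⁅a, b⁆ := by
        rw [← T.comm, commutator_def, Subgroup.commutator_le]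
        exact fun g _ h _ => hcomm g h
      have := Subgroup.card_le_of_le hle
      rw [hl, Nat.card_zpowers] at this
      have h2 : orderOf ⁅a, b⁆ ≤ 2 := Nat.le_of_dvd (by norm_num) (orderOf_dvd_of_pow_eq_one (T.zsq _ (T.mem a b)))
      omega
    have hd' : d = 4 := by
      by_contra h
      have h3 : d = 3 := by omega
      subst h3
      by_cases hfix : ∀ φ ∈ S.A, φ (a ^ 2) = a ^ 2
      · exact T.not_const (by rw [hd]; norm_num) (hconst (by norm_num) hfix)
      push Not at hfix
      obtain ⟨φ, hφ, hm⟩ := hfix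
      obtain ⟨hff, h3, -, hall, he1, hef⟩ := three S hZel hZ4 (fun ψ _ z hz => T.auto_center ψ hz) hφ (T.sq a) hm
      set e := a ^ 2 with he
      -- fibres of equal size
      let F : X → Set (X ⧸ Subgroup.center X) := fun t => {v | v ≠ 1 ∧ qv v = t}
      have hinj : ∀ t, (F t).ncard ≤ (F (φ t)).ncard := by
        intro t
        refine Set.ncard_le_ncard_of_injOn (fun v => ((φ v.out : X) : X ⧸ Subgroup.center X)) ?_ ?_
        · rintro v ⟨hv1, hvq⟩
          refine ⟨fun h => hv1 ?_, ?_⟩
          · have h1 := T.auto_center φ⁻¹ ((QuotientGroup.eq_one_iff _).1 h)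
            rw [MulAut.inv_apply_self] at h1
            rw [← QuotientGroup.out_eq' v, QuotientGroup.eq_one_iff]
            exact h1
          · show qv _ = φ t
            rw [T.q_mk, ← map_pow, ← hvq]
            rfl
        · intro v _ w _ h
          have := T.mk_congr φ⁻¹ h
          rw [MulAut.inv_apply_self, MulAut.inv_apply_self, QuotientGroup.out_eq', QuotientGroup.out_eq'] at this
          exact this
      have k1 := hinj e
      have k2 := hinj (φ e)
      have k3 := hinj (φ (φ e))
      rw [h3] at k3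
      have hne : e ≠ φ e := Ne.symm hm
      have hne2 : φ e ≠ φ (φ e) := fun h => hm (φ.injective h).symm
      have hne3 : e ≠ φ (φ e) := fun h => hm (no_swap S hφ h.symm)
      have hU : {v : X ⧸ Subgroup.center X | v ≠ 1} = F e ∪ F (φ e) ∪ F (φ (φ e)) := by
        ext v
        refine ⟨fun hv => ?_, ?_⟩
        · have hout : v.out ^ 2 ≠ 1 := fun h => hv (by
            rw [← QuotientGroup.out_eq' v, QuotientGroup.eq_one_iff]; exact hin _ h)
          rcases hall _ (T.sq v.out) with h | h | h | h
          · exact absurd h hout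
          · exact Or.inl (Or.inl ⟨hv, h⟩)
          · exact Or.inl (Or.inr ⟨hv, h⟩)
          · exact Or.inr ⟨hv, h.trans hff.symm⟩
        · rintro ((h | h) | h) <;> exact h.1
      have hdj : ∀ s t, s ≠ t → Disjoint (F s) (F t) := fun s t hst =>
        Set.disjoint_left.2 fun v h h' => hst (h.2.symm.trans h'.2)
      have htot : ({v : X ⧸ Subgroup.center X | v ≠ 1}).ncard = 7 := by
        rw [show {v : X ⧸ Subgroup.center X | v ≠ 1} = Set.univ \ {1} by ext; simp,
          Set.ncard_sdiff_singleton_of_mem (Set.mem_univ _), Set.ncard_univ, hd]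
        norm_num
      rw [hU, Set.ncard_union_eq (Disjoint.union_left (hdj _ _ hne3) (hdj _ _ hne2)),
        Set.ncard_union_eq (hdj _ _ hne)] at htot
      omega
    subst hd'
    refine ⟨hspec, by rw [hXc]; norm_num, ?_, fun x hx => hin x ((hord x).1 hx).1⟩
    have : Nat.card {x : X // orderOf x = 2} = ((Subgroup.center X : Set X) \ {1}).ncard := by
      rw [← Nat.card_coe_set_eq]
      exact Nat.card_congr (Equiv.subtypeEquivRight fun x => by
        rw [hord]; exact ⟨fun h => ⟨hin x h.1, h.2⟩, fun h => ⟨T.zsq x h.1, h.2⟩⟩)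
    rw [this, Set.ncard_sdiff_singleton_of_mem (one_mem (Subgroup.center X)),
      show (Subgroup.center X : Set X).ncard = 4 from hl]

end Cfsg.Agent.ScnThreeTwo
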