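/-
The case of an invariant abelian subgroup of exponent at least four: the group is special.
-/
import Mathlib
import Cfsg.Agent.Lib.ScnThreeTwo.Coord
import Cfsg.Agent.Lib.ScnThreeTwo.Special

set_option autoImplicit false
set_option linter.style.haveILetI false

namespace Cfsg.Agent.ScnThreeTwo

open scoped commutatorElement
open Matrix

variable {X : Type*} [Group X] [Finite X] {S : Setup X} (M : Moved S)

/-- The congruence levels. -/
def Moved.Lev (k : ℕ) (x : X) : Prop :=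
  ∃ V : Matrix (Fin 2) (Fin 2) (ZMod (2 ^ M.a)), M.ρ x = 1 + (2 ^ k) • V

theorem Moved.lev_unique {k : ℕ} (hk : k < M.a) {V W : Matrix (Fin 2) (Fin 2) (ZMod (2 ^ M.a))}
    (h : (1 : Matrix (Fin 2) (Fin 2) (ZMod (2 ^ M.a))) + (2 ^ k) • V = 1 + (2 ^ k) • W) :
    Red M.a_ne V = Red M.a_ne W := by
  have h0 : (2 ^ k) • (V - W) = 0 := by rw [smul_sub, sub_eq_zero]; exact add_left_cancel h
  have := Red_of_smul_eq_zero M.a_ne hk h0
  rwa [map_sub, sub_eq_zero] at this

theorem Moved.lev_one (x : X) : M.Lev 1 x := by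
  obtain ⟨V, hV⟩ := exists_two_mat M.a_ne (M := M.ρ x - 1) (by rw [map_sub, M.Red_ρ, map_one, sub_self])
  exact ⟨V, by rw [pow_one, ← hV, add_sub_cancel]⟩

/-- The exact level. -/
theorem Moved.exists_level (hna : ∃ a b : X, a * b ≠ b * a) :
    ∃ k, 1 ≤ k ∧ k < M.a ∧ (∀ x, M.Lev k x) ∧ ∃ x, ¬ M.Lev (k + 1) x := by
  by_contra hno
  push Not at hno
  have all : ∀ k, k ≤ M.a → 1 ≤ k → ∀ x, M.Lev k x := by
    intro k
    induction k with
    | zero => intro _ h; omega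
    | succ k ih =>
      intro hk _ x
      rcases Nat.eq_zero_or_pos k with rfl | hk0
      · exact M.lev_one x
      · exact hno k hk0 (by omega) (ih (by omega) hk0) x
  obtain ⟨p, q, hpq⟩ := hna
  have hD : ∀ x : X, x ∈ M.D := fun x => M.ρ_eq_one (by
    obtain ⟨V, hV⟩ := all M.a le_rfl (by have := M.two_le; omega) x
    rw [hV, two_pow_smul (a := M.a) le_rfl, add_zero])
  exact hpq (M.comm p (hD p) q (hD q))

/-- The leading layer consists of antilinear maps. -/
theorem Moved.layer {k : ℕ} (hk1 : 1 ≤ k) (hk : k < M.a) (hall : ∀ x, M.Lev k x) {x : X}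
    {V : Matrix (Fin 2) (Fin 2) (ZMod (2 ^ M.a))} (hV : M.ρ x = 1 + (2 ^ k) • V) :
    Red M.a_ne V = 0 ∨ ((Red M.a_ne V).det = 1 ∧
      Red M.a_ne V * (wmat * Red M.a_ne V * (wmat * wmat)) + wmat * Red M.a_ne V * (wmat * wmat) * Red M.a_ne V = 1 ∧
      Red M.a_ne V * Red M.a_ne V = 1) := by
  classical
  choose W hW using hall
  have hlam : ∀ (y : X) (U : Matrix (Fin 2) (Fin 2) (ZMod (2 ^ M.a))), M.ρ y = 1 + (2 ^ k) • U →
      Red M.a_ne (W y) = Red M.a_ne U := fun y U h => M.lev_unique hk ((hW y).symm.trans h)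
  have hadd : ∀ y z, Red M.a_ne (W (y * z)) = Red M.a_ne (W y) + Red M.a_ne (W z) := by
    intro y z
    rw [hlam (y * z) (W y + W z + (2 ^ k) • (W y * W z)), map_add, map_add, Red_two M.a_ne _ (by omega), add_zero]
    rw [map_mul, hW y, hW z]
    simp only [add_mul, mul_add, one_mul, mul_one, smul_mul_assoc, mul_smul_comm, smul_add]
    abel
  have heq : ∀ (ψ : S.A) y, Red M.a_ne (W ((ψ : MulAut X) y)) =
      Red M.a_ne (M.σ ψ) * Red M.a_ne (W y) * Red M.a_ne (M.σ ψ⁻¹) := by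
    intro ψ y
    rw [← map_mul, ← map_mul]
    refine hlam _ _ ?_
    rw [M.ρ_equiv, hW y, mul_add, add_mul, mul_one, M.σ_mul_inv, mul_smul_comm, smul_mul_assoc]
  let P : Matrix (Fin 2) (Fin 2) (ZMod 2) → Matrix (Fin 2) (Fin 2) (ZMod 2) :=
    fun v => v + wmat * v * (wmat * wmat) + wmat * wmat * v * wmat
  let F : X →* Multiplicative (Matrix (Fin 2) (Fin 2) (ZMod 2)) :=
    MonoidHom.mk' (fun y => Multiplicative.ofAdd (P (Red M.a_ne (W y)))) (fun y z => by
      show Multiplicative.ofAdd (P (Red M.a_ne (W (y * z)))) =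
        Multiplicative.ofAdd (P (Red M.a_ne (W y))) * Multiplicative.ofAdd (P (Red M.a_ne (W z)))
      rw [hadd, ← ofAdd_add]
      congr 1
      simp only [P, mul_add, add_mul]
      abel)
  have h3 : wmat * (wmat * wmat) = 1 := by rw [← mul_assoc]; exact wmat_cube
  have hinv : ∀ ψ ∈ S.A, ∀ y, F (ψ y) = F y := by
    intro ψ hψ y
    show Multiplicative.ofAdd (P (Red M.a_ne (W (ψ y)))) = Multiplicative.ofAdd (P (Red M.a_ne (W y)))
    congr 1
    have he := heq ⟨ψ, hψ⟩ y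
    simp only at he
    rw [he]
    generalize Red M.a_ne (W y) = v
    rcases M.Red_σ_inv ⟨ψ, hψ⟩ with ⟨e1, e2⟩ | ⟨e1, e2⟩ | ⟨e1, e2⟩ <;> rw [e1, e2] <;>
      simp only [P, one_mul, mul_one, ← mul_assoc, wmat_cube] <;>
      simp only [mul_assoc, h3, mul_one] <;> abel
  have h0 : P (Red M.a_ne (W x)) = 0 := Multiplicative.ofAdd.injective (hom_kill S F hinv x)
  rw [hlam x V hV] at h0
  exact layer_dichotomy h0

/-- Powers of a congruence element. -/
theorem Moved.tower {k : ℕ} (hk : 2 ≤ k) (V : Matrix (Fin 2) (Fin 2) (ZMod (2 ^ M.a))) :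
    ∀ j : ℕ, ∃ U W : Matrix (Fin 2) (Fin 2) (ZMod (2 ^ M.a)),
      (1 + (2 ^ k) • V) ^ 2 ^ j = 1 + (2 ^ (k + j)) • U ∧ Red M.a_ne U = Red M.a_ne V ∧
      ∑ i ∈ Finset.range (2 ^ j), (1 + (2 ^ k) • V) ^ i = (2 ^ j) • W ∧ Red M.a_ne W = 1 := by
  intro j
  induction j with
  | zero => exact ⟨V, 1, by simp, rfl, by simp, map_one _⟩
  | succ j ih =>
    obtain ⟨U, W, hU, hU', hW, hW'⟩ := ih
    refine ⟨U + (2 ^ (k + j - 1)) • (U * U), (1 + (2 ^ (k + j - 1)) • U) * W, ?_, ?_, ?_, ?_⟩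
    · rw [pow_succ (2 : ℕ) j, pow_mul, hU, pow_two, add_mul, one_mul, mul_add, mul_one, smul_mul_assoc, mul_smul_comm,
        smul_smul, smul_add, smul_smul, ← pow_add, ← pow_add, show k + (j + 1) + (k + j - 1) = k + j + (k + j) by omega,
        show k + (j + 1) = k + j + 1 by omega, pow_succ (2 : ℕ) (k + j), mul_nsmul (U), two_nsmul]
      abel
    · rw [map_add, Red_two M.a_ne _ (by omega), add_zero, hU']
    · rw [pow_succ, mul_two, Finset.sum_range_add, hW,
        Finset.sum_congr rfl (fun i _ => pow_add (1 + (2 ^ k) • V) (2 ^ j) i), ← Finset.mul_sum, hW, hU, add_mul, one_mul]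
      rw [add_mul, one_mul, smul_mul_assoc, smul_mul_assoc, mul_smul_comm, smul_smul, smul_add, smul_smul, ← mul_two,
        ← pow_succ, ← pow_add, ← pow_add, pow_succ, mul_nsmul W, two_nsmul, show j + 1 + (k + j - 1) = k + j + j by omega]
      abel
    · rw [map_mul, map_add, map_one, Red_two M.a_ne _ (by omega), add_zero, one_mul, hW']

theorem Moved.ρ_f (v : Fin 2 → ZMod (2 ^ M.a)) : M.ρ (M.f v) = 1 := M.ρ_of_mem (M.f_mem v)

theorem Moved.f_mul_pow (x : X) (v : Fin 2 → ZMod (2 ^ M.a)) (n : ℕ) :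
    (M.f v * x) ^ n = M.f ((∑ i ∈ Finset.range n, M.ρ x ^ i) *ᵥ v) * x ^ n := by
  induction n with
  | zero => simp [M.f_zero]
  | succ n ih =>
    rw [pow_succ', ih, Finset.sum_range_succ', pow_zero, Matrix.add_mulVec, Matrix.one_mulVec, add_comm,
      show (∑ i ∈ Finset.range n, M.ρ x ^ (i + 1)) = M.ρ x * ∑ i ∈ Finset.range n, M.ρ x ^ i by
        rw [Finset.mul_sum]; exact Finset.sum_congr rfl fun i _ => pow_succ' _ i,
      M.f_add, ← Matrix.mulVec_mulVec, M.ρ_spec, pow_succ' x]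
    simp [mul_assoc]

/-- A congruence element with invertible leading part gives a normal `E₈`. -/
theorem Moved.no_good {k : ℕ} (hk2 : 2 ≤ k) (hk : k < M.a) {x : X}
    {V : Matrix (Fin 2) (Fin 2) (ZMod (2 ^ M.a))} (hV : M.ρ x = 1 + (2 ^ k) • V)
    (hdet : (Red M.a_ne V).det = 1) : False := by
  obtain ⟨V', hV'V, -⟩ := exists_inverse M.a_ne hdet
  set j := M.a - k - 1 with hj
  obtain ⟨U, -, hU, hU', -, -⟩ := M.tower hk2 V j
  obtain ⟨U₁, W, hU₁, -, hW, hW'⟩ := M.tower hk2 V (j + 1)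
  obtain ⟨W', -, hWW'⟩ := exists_inverse M.a_ne (V := W) (by rw [hW', Matrix.det_one])
  have hxq : x ^ 2 ^ (j + 1) ∈ M.D := M.ρ_eq_one (by
    rw [map_pow, hV, hU₁, two_pow_smul (a := M.a) (by omega), add_zero])
  obtain ⟨e, he⟩ := M.f_surj hxq
  have hfix : M.ρ x *ᵥ e = e := M.f_inj (by
    rw [M.ρ_spec, he, ← pow_succ', pow_succ, mul_inv_cancel_right])
  have hke : (2 ^ k) • e = 0 := by
    rw [hV, Matrix.add_mulVec, Matrix.one_mulVec, add_eq_left, Matrix.smul_mulVec] at hfix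
    have := congrArg (fun z => V' *ᵥ z) hfix
    simp only [Matrix.mulVec_smul, Matrix.mulVec_mulVec, hV'V, Matrix.one_mulVec, Matrix.mulVec_zero] at this
    exact this
  obtain ⟨e', he'⟩ := vec_root hk.le hke
  set v := W' *ᵥ (-e') with hv
  set y := (M.f v * x) ^ 2 ^ j with hy
  have hy2 : y ^ 2 = 1 := by
    rw [hy, ← pow_mul, ← pow_succ, M.f_mul_pow, hV, hW, Matrix.smul_mulVec, hv, Matrix.mulVec_mulVec, hWW',
      Matrix.one_mulVec, ← he, ← M.f_add, he', show M.a - k = j + 1 by omega, smul_neg, neg_add_cancel, M.f_zero]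
  have hρy : M.ρ y = 1 + (2 ^ (M.a - 1)) • U := by
    rw [hy, map_pow, map_mul, M.ρ_f, one_mul, hV, hU, show k + j = M.a - 1 by omega]
  have hU1 : (2 ^ (M.a - 1)) • U ≠ 0 := by
    intro h
    have := Red_of_smul_eq_zero M.a_ne (by omega) h
    rw [hU'] at this
    rw [this, Matrix.det_zero] at hdet
    exact zero_ne_one hdet
  have hyE : y ∉ M.E := fun h => hU1 (by
    have := M.ρ_of_mem (show y ∈ M.D from h.1)
    rwa [hρy, add_eq_left] at this)
  refine small_ext S (fun u (hu : u ∈ M.E) => M.E_facts.2.2.1.2 u hu) M.E_central M.E_card hy2 hyE fun z => ?_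
  obtain ⟨Z, hZ⟩ := M.lev_one z
  have hcomm : M.ρ z * M.ρ y = M.ρ y * M.ρ z := by
    have e1 : 2 * 2 ^ (M.a - 1) = 2 ^ M.a := by rw [← pow_succ']; congr 1; omega
    rw [hZ, hρy, pow_one]
    simp only [add_mul, mul_add, one_mul, mul_one, smul_mul_assoc, mul_smul_comm, smul_add, smul_smul,
      mul_comm (2 ^ (M.a - 1)) 2, e1, two_pow_smul (a := M.a) le_rfl]
    abel
  have hcD : ⁅z, y⁆ ∈ M.D := M.ρ_eq_one (by
    rw [commutatorElement_def, map_mul, map_mul, map_mul, hcomm, mul_assoc (M.ρ y) (M.ρ z), ← map_mul M.ρ z,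
      mul_inv_cancel, map_one, mul_one, ← map_mul, mul_inv_cancel, map_one])
  refine M.mem_E hcD ?_
  obtain ⟨c, hc⟩ := M.f_surj hcD
  have h1 : (z * y * z⁻¹) ^ 2 = 1 := by rw [conj_pow, hy2]; simp
  rw [show z * y * z⁻¹ = ⁅z, y⁆ * y by simp [commutatorElement_def], ← hc, pow_two,
    show M.f c * y * (M.f c * y) = M.f c * (y * M.f c * y⁻¹) * (y * y) by simp [mul_assoc], ← M.ρ_spec,
    ← pow_two y, hy2, mul_one, ← M.f_add, ← M.f_zero] at h1
  have h2 := M.f_inj h1
  rw [hρy, Matrix.add_mulVec, Matrix.one_mulVec, Matrix.smul_mulVec, ← add_assoc, ← two_nsmul] at h2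
  have h4 : (4 : ℕ) • c = 0 := by
    have := congrArg (fun z => (2 : ℕ) • z) h2
    simp only [smul_add, smul_zero, smul_smul] at this
    rw [show 2 * 2 ^ (M.a - 1) = 2 ^ M.a by rw [← pow_succ']; congr 1; omega, two_pow_smul (a := M.a) le_rfl, add_zero] at this
    exact this
  have hN : (2 ^ (M.a - 1)) • c = 0 := by
    rw [show M.a - 1 = (M.a - 3) + 2 by omega, pow_add, mul_nsmul', show (2 : ℕ) ^ 2 = 4 from rfl, h4, smul_zero]
  rw [← Matrix.mulVec_smul, hN, Matrix.mulVec_zero, add_zero] at h2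
  rw [← hc, ← M.f_nsmul, h2, M.f_zero]

/-- The exponent is four. -/
theorem Moved.a_eq_two (hna : ∃ a b : X, a * b ≠ b * a) : M.a = 2 := by
  by_contra ha
  have ha3 : 3 ≤ M.a := by have := M.two_le; omega
  obtain ⟨k, hk1, hk, hall, x, hx⟩ := M.exists_level hna
  obtain ⟨V, hV⟩ := hall x
  rcases M.layer hk1 hk hall hV with h | ⟨hdet, hjw, hjj⟩
  · obtain ⟨V', rfl⟩ := exists_two_mat M.a_ne h
    exact hx ⟨V', by rw [hV, smul_smul, pow_succ]⟩
  rcases Nat.lt_or_ge k 2 with hk2 | hk2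
  swap
  · exact M.no_good hk2 hk hV hdet
  have hk' : k = 1 := by omega
  subst hk'
  rw [pow_one] at hV
  set s : S.A := ⟨M.φ, M.hφ⟩
  set V' := M.σ s * V * M.σ s⁻¹ with hV'def
  have hV' : M.ρ (M.φ x) = 1 + (2 : ℕ) • V' := by
    rw [show M.φ x = (s : MulAut X) x from rfl, M.ρ_equiv, hV, mul_add, add_mul, mul_one, M.σ_mul_inv,
      mul_smul_comm, smul_mul_assoc, hV'def]
  have hRV' : Red M.a_ne V' = wmat * Red M.a_ne V * (wmat * wmat) := by
    rw [hV'def, map_mul, map_mul]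
    rcases M.Red_σ_inv s with ⟨e1, -⟩ | ⟨e1, e2⟩ | ⟨e1, -⟩
    · rw [M.Red_φ] at e1
      exact absurd e1 (by decide +kernel)
    · rw [e1, e2]
    · rw [M.Red_φ] at e1
      exact absurd e1 (by decide +kernel)
  set H := M.ρ (M.φ x * x)⁻¹ with hH
  have hH1 : Red M.a_ne H = 1 := M.Red_ρ _
  set C := (V * V' - V' * V) * H with hC
  have hc : M.ρ ⁅x, M.φ x⁆ = 1 + (4 : ℕ) • C := by
    have h1 : ⁅x, M.φ x⁆ = x * M.φ x * (M.φ x * x)⁻¹ := by simp [commutatorElement_def, mul_assoc]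
    have h2 : (1 + (2 : ℕ) • V') * (1 + (2 : ℕ) • V) * H = 1 := by
      rw [← hV, ← hV', hH, ← map_mul, ← map_mul, mul_inv_cancel, map_one]
    rw [h1, map_mul, map_mul, hV, hV', ← hH]
    have h3 : (1 + (2 : ℕ) • V) * (1 + (2 : ℕ) • V') =
        (1 + (2 : ℕ) • V') * (1 + (2 : ℕ) • V) + (4 : ℕ) • (V * V' - V' * V) := by
      simp only [add_mul, mul_add, one_mul, mul_one, smul_mul_assoc, mul_smul_comm, smul_smul, smul_sub]
      abel
    rw [h3, add_mul, h2, smul_mul_assoc, hC]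
  have hsq : M.ρ (x ^ 2) = 1 + (4 : ℕ) • (V + V * V) := by
    rw [map_pow, hV, pow_two]
    simp only [add_mul, mul_add, one_mul, mul_one, smul_mul_assoc, mul_smul_comm, smul_smul, smul_add]
    rw [show (4 : ℕ) • V = (2 : ℕ) • V + (2 : ℕ) • V by rw [← add_nsmul], show (4 : ℕ) = 2 * 2 from rfl]
    abel
  have hz : M.ρ (⁅x, M.φ x⁆ * x ^ 2) = 1 + (2 ^ 2) • (C + (V + V * V) + (4 : ℕ) • (C * (V + V * V))) := by
    rw [map_mul, hc, hsq, show (2 : ℕ) ^ 2 = 4 from rfl]
    simp only [add_mul, mul_add, one_mul, mul_one, smul_mul_assoc, mul_smul_comm, smul_add]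
    abel
  refine M.no_good le_rfl (by omega) hz ?_
  rw [map_add, show (4 : ℕ) = 2 ^ 2 from rfl, Red_two M.a_ne _ (by omega), add_zero]
  simp only [hC, map_add, map_mul, map_sub, hH1, mul_one, hjj, hRV']
  have hneg : ∀ A B : Matrix (Fin 2) (Fin 2) (ZMod 2), A - B = A + B := fun A B => by
    ext i j; simp [CharTwo.sub_eq_add]
  rw [hneg, hjw, show (1 : Matrix (Fin 2) (Fin 2) (ZMod 2)) + (Red M.a_ne V + 1) = Red M.a_ne V by
    rw [add_comm, add_assoc, ← two_nsmul, mat_two_nsmul, add_zero]]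
  exact hdet

include M in
/-- The class two conclusion. -/
theorem Moved.two (hna : ∃ a b : X, a * b ≠ b * a) : Two X := by
  have ha := M.a_eq_two hna
  have h4 : ∀ U : Matrix (Fin 2) (Fin 2) (ZMod (2 ^ M.a)), (4 : ℕ) • U = 0 := fun U =>
    (show (4 : ℕ) = 2 ^ 2 from rfl) ▸ two_pow_smul (a := M.a) (by omega) U
  have hall : ∀ x, M.Lev 1 x := M.lev_one
  -- the elements fixed by an element outside D
  have key : ∀ x, x ∉ M.D → ∀ d ∈ M.D, x * d * x⁻¹ = d → d ^ 2 = 1 := by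
    intro x hx d hd hxd
    obtain ⟨V, hV⟩ := hall x
    rcases M.layer le_rfl (by omega) hall hV with h | ⟨hdet, -, -⟩
    · obtain ⟨V', rfl⟩ := exists_two_mat M.a_ne h
      refine absurd (M.ρ_eq_one ?_) hx
      rw [hV, smul_smul, show 2 ^ 1 * 2 = 4 from rfl, h4, add_zero]
    obtain ⟨V', hV'V, -⟩ := exists_inverse M.a_ne hdet
    obtain ⟨v, rfl⟩ := M.f_surj hd
    rw [← M.ρ_spec] at hxd
    have h1 := M.f_inj hxd
    rw [hV, Matrix.add_mulVec, Matrix.one_mulVec, add_eq_left, Matrix.smul_mulVec] at h1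
    have := congrArg (fun z => V' *ᵥ z) h1
    simp only [Matrix.mulVec_smul, Matrix.mulVec_mulVec, hV'V, Matrix.one_mulVec, Matrix.mulVec_zero, pow_one] at this
    rw [← M.f_nsmul, this, M.f_zero]
  have hsq : ∀ x : X, x ^ 2 ∈ M.E := by
    intro x
    by_cases hx : x ∈ M.D
    · refine M.mem_E (pow_mem hx 2) ?_
      have := M.pow_eq hx
      rw [ha] at this
      rw [← pow_mul]; exact this
    obtain ⟨V, hV⟩ := hall x
    have hxD : x ^ 2 ∈ M.D := M.ρ_eq_one (by
      rw [map_pow, hV, pow_two, pow_one]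
      simp only [add_mul, mul_add, one_mul, mul_one, smul_mul_assoc, mul_smul_comm, smul_add, smul_smul, ← add_assoc]
      rw [show (2 : ℕ) * 2 = 4 from rfl, h4, add_zero, add_assoc, ← add_nsmul, show 2 + 2 = 4 from rfl, h4, add_zero])
    exact M.mem_E hxD (key x hx _ hxD (by simp [pow_two, mul_assoc]))
  have hcomm : ∀ x y : X, ⁅x, y⁆ ∈ M.E := by
    intro x y
    have h1 : ⁅x, y⁆ = (x * y) ^ 2 * (y⁻¹ * (x ^ 2)⁻¹ * y) * (y ^ 2)⁻¹ := by
      simp [commutatorElement_def, pow_two, mul_assoc]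
    rw [h1, Subgroup.mem_center_iff.1 (M.E_central (inv_mem (hsq x))) y⁻¹, inv_mul_cancel_right]
    exact mul_mem (mul_mem (hsq _) (inv_mem (hsq x))) (inv_mem (hsq y))
  obtain ⟨p, q, hpq⟩ := hna
  have hcen : Subgroup.center X = M.E := by
    refine le_antisymm (fun z hz => ?_) M.E_central
    have hzD : z ∈ M.D := M.ρ_eq_one (M.mat_ext fun v => by
      rw [M.ρ_spec, Matrix.one_mulVec, (Subgroup.mem_center_iff.1 hz _).symm, mul_inv_cancel_right])
    have hout : ∃ x, x ∉ M.D := by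
      by_contra h
      push Not at h
      exact hpq (M.comm p (h p) q (h q))
    obtain ⟨x, hx⟩ := hout
    exact M.mem_E hzD (key x hx z hzD (by rw [Subgroup.mem_center_iff.1 hz x, mul_inv_cancel_right]))
  refine ⟨⟨p, q, hpq⟩, fun z hz => ?_, fun x => hcen ▸ hsq x, ?_⟩
  · rw [hcen] at hz
    exact M.E_facts.2.2.1.2 z hz
  · rw [hcen]
    have hle : commutator X ≤ M.E := by
      rw [commutator_def, Subgroup.commutator_le]; exact fun x _ y _ => hcomm x y
    refine le_antisymm hle (le_of_inv S M.E_facts.2.2.1 M.E_facts.2.2.2 M.E_facts.2.1 M.hφ M.eE M.hm hle ?_ ?_)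
    · intro ψ _ x hx
      have : (commutator X).map ψ.toMonoidHom ≤ commutator X := by
        rw [commutator_def, Subgroup.map_commutator]; exact Subgroup.commutator_mono le_top le_top
      exact this ⟨x, hx, rfl⟩
    · intro h
      have hm : ⁅p, q⁆ ∈ commutator X := by
        rw [commutator_def]; exact Subgroup.commutator_mem_commutator trivial trivial
      rw [h, Subgroup.mem_bot] at hm
      exact hpq (commutatorElement_eq_one_iff_mul_comm.1 hm)

end Cfsg.Agent.ScnThreeTwo
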