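/-
The case where all invariant abelian normal subgroups are central, and the final classification.
-/
import Mathlib
import Cfsg.Agent.Lib.ScnThreeTwo.Big
import Cfsg.Agent.Lib.Transfer.PGroup

set_option autoImplicit false
set_option linter.style.haveILetI false

namespace Cfsg.Agent.ScnThreeTwo

open scoped commutatorElement

variable {X : Type*} [Group X] [Finite X]

omit [Finite X] in
theorem map_center (ψ : MulAut X) {z : X} (hz : z ∈ Subgroup.center X) : ψ z ∈ Subgroup.center X :=
  Subgroup.mem_center_iff.2 fun g => by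
    obtain ⟨g', rfl⟩ := ψ.surjective g
    rw [← map_mul, ← map_mul, Subgroup.mem_center_iff.1 hz]

theorem two_of_central (S : Setup X) (hna : ∃ a b : X, a * b ≠ b * a)
    (hcentral : ∀ B : Subgroup X, B.Normal → Inv S.A B → (∀ a ∈ B, ∀ b ∈ B, a * b = b * a) → B ≤ Subgroup.center X)
    (hmoved : ∀ φ ∈ S.A, ∀ z ∈ Subgroup.center X, φ z ≠ z → ∀ w ∈ Subgroup.center X, w ^ 2 = 1) : Two X := by
  classical
  haveI : Group.IsNilpotent X := S.hX.isNilpotent
  haveI : Fact (Nat.Prime 2) := ⟨Nat.prime_two⟩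
  set Z := Subgroup.center X with hZ
  have hKi : Inv S.A (commutator X) := by
    intro ψ _ x hx
    have : (commutator X).map ψ.toMonoidHom ≤ commutator X := by
      rw [commutator_def, Subgroup.map_commutator]; exact Subgroup.commutator_mono le_top le_top
    exact this ⟨x, hx, rfl⟩
  -- class two
  have hKZ : commutator X ≤ Z := by
    by_contra hK
    set q := QuotientGroup.mk' Z with hq
    haveI : Group.IsNilpotent (X ⧸ Z) := (S.hX.to_quotient Z).isNilpotent
    haveI : ((commutator X).map q).Normal :=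
      Subgroup.Normal.map inferInstance _ (QuotientGroup.mk'_surjective _)
    have hne : (commutator X).map q ≠ ⊥ := fun h => hK fun c hc =>
      (QuotientGroup.eq_one_iff c).1 (Subgroup.mem_bot.1 (h ▸ Subgroup.mem_map_of_mem q hc))
    obtain ⟨w, hw, hw1⟩ := (Subgroup.bot_or_exists_ne_one _).resolve_left (SolvStruct.inf_center_ne_bot hne)
    obtain ⟨⟨z, hzK, rfl⟩, hwc⟩ := hw
    let Z2 : Subgroup X := (Subgroup.center (X ⧸ Z)).comap q
    set B := commutator X ⊓ Z2 with hB
    have hZ2comm : ∀ u ∈ Z2, ∀ x : X, ⁅x, u⁆ ∈ Z := fun u hu x => by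
      rw [← QuotientGroup.eq_one_iff, ← QuotientGroup.mk'_apply, map_commutatorElement]
      exact commutatorElement_eq_one_iff_mul_comm.2 (Subgroup.mem_center_iff.1 hu (q x))
    have hcm : ∀ u ∈ Z2, ∀ k ∈ commutator X, k * u = u * k := by
      intro u hu k hk
      let f : X →* Z :=
        { toFun := fun x => ⟨⁅x, u⁆, hZ2comm u hu x⟩
          map_one' := Subtype.ext (by simp)
          map_mul' := fun a b => Subtype.ext (by
            show ⁅a * b, u⁆ = ⁅a, u⁆ * ⁅b, u⁆
            have h := Subgroup.mem_center_iff.1 (hZ2comm u hu b)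
            calc ⁅a * b, u⁆ = (a * ⁅b, u⁆ * a⁻¹) * ⁅a, u⁆ := by simp [commutatorElement_def, mul_assoc]
              _ = _ := by rw [h a, mul_inv_cancel_right, (h _).symm]) }
      have hle : commutator X ≤ f.ker := by
        rw [commutator_def, Subgroup.commutator_le]
        intro a _ b _
        rw [MonoidHom.mem_ker, map_commutatorElement, commutatorElement_eq_one_iff_mul_comm]
        exact Subtype.ext (Subgroup.mem_center_iff.1 (f b).2 (f a))
      exact commutatorElement_eq_one_iff_mul_comm.1 (congrArg Subtype.val (MonoidHom.mem_ker.1 (hle hk)))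
    have hBi : Inv S.A B := by
      rintro ψ hψ u ⟨hu1, hu2⟩
      refine ⟨hKi ψ hψ u hu1, Subgroup.mem_center_iff.2 fun g => ?_⟩
      induction g using QuotientGroup.induction_on with | _ g => ?_
      refine commutatorElement_eq_one_iff_mul_comm.1 ?_
      rw [show (g : X ⧸ Z) = q g from rfl, ← map_commutatorElement, hq, QuotientGroup.mk'_apply,
        QuotientGroup.eq_one_iff, ← ψ.apply_symm_apply g, ← map_commutatorElement]
      exact map_center ψ (hZ2comm u hu2 _)
    have hBn : B.Normal := Subgroup.normal_inf_normal _ _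
    have := hcentral B hBn hBi (fun u hu v hv => hcm v hv.2 u hu.1) ⟨hzK, hwc⟩
    exact hw1 ((QuotientGroup.eq_one_iff z).2 this)
  have hcZ : ∀ x y : X, ⁅x, y⁆ ∈ Z := fun x y => hKZ (by
    rw [commutator_def]; exact Subgroup.commutator_mem_commutator trivial trivial)
  have mulL : ∀ a b u : X, ⁅a * b, u⁆ = ⁅a, u⁆ * ⁅b, u⁆ := fun a b u => by
    have h := Subgroup.mem_center_iff.1 (hcZ b u)
    calc ⁅a * b, u⁆ = (a * ⁅b, u⁆ * a⁻¹) * ⁅a, u⁆ := by simp [commutatorElement_def, mul_assoc]
      _ = _ := by rw [h a, mul_inv_cancel_right, (h _).symm]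
  have powL : ∀ (a u : X) (n : ℕ), ⁅a ^ n, u⁆ = ⁅a, u⁆ ^ n := fun a u n => by
    induction n with
    | zero => simp
    | succ n ih => rw [pow_succ, mulL, ih, pow_succ]
  have powR : ∀ (a u : X) (n : ℕ), ⁅a, u ^ n⁆ = ⁅a, u⁆ ^ n := fun a u n => by
    rw [← commutatorElement_inv, powL, ← inv_pow, commutatorElement_inv]
  have hsq1 : ∀ x y : X, ⁅x, y⁆ ^ 2 = 1 := by
    have key : ∀ k, (∀ x y : X, ⁅x, y⁆ ^ 2 ^ k = 1) → ∀ x y : X, ⁅x, y⁆ ^ 2 = 1 := by
      intro k
      induction k with
      | zero =>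
        intro h x y
        have := h x y
        rw [pow_zero, pow_one] at this
        rw [this, one_pow]
      | succ k ih =>
        intro h
        rcases Nat.eq_zero_or_pos k with rfl | hk
        · simpa using h
        refine ih fun x y => ?_
        set W := Subgroup.closure ((Z : Set X) ∪ {u : X | ∃ x : X, u = x ^ 2 ^ k}) with hW
        haveI hWc : IsMulCommutative W := Subgroup.isMulCommutative_closure (by
          rintro u (hu | ⟨a, rfl⟩) v (hv | ⟨b, rfl⟩)
          · exact (Subgroup.mem_center_iff.1 hu v).symm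
          · exact (Subgroup.mem_center_iff.1 hu _).symm
          · exact Subgroup.mem_center_iff.1 hv _
          · refine commutatorElement_eq_one_iff_mul_comm.1 ?_
            rw [powL, powR, ← pow_mul, ← pow_add, show k + k = (k + 1) + (k - 1) by omega, pow_add, pow_mul, h,
              one_pow])
        have hWn : W.Normal := ⟨fun w hw g => by
          rw [show g * w * g⁻¹ = ⁅g, w⁆ * w by simp [commutatorElement_def]]
          exact mul_mem (Subgroup.subset_closure (Or.inl (hcZ g w))) hw⟩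
        have hWi : Inv S.A W := by
          intro ψ _ w hw
          induction hw using Subgroup.closure_induction with
          | mem w hw =>
            rcases hw with hw | ⟨a, rfl⟩
            · exact Subgroup.subset_closure (Or.inl (map_center ψ hw))
            · exact Subgroup.subset_closure (Or.inr ⟨ψ a, map_pow ψ a _⟩)
          | one => rw [map_one]; exact one_mem _
          | mul a b _ _ iha ihb => rw [map_mul]; exact mul_mem iha ihb
          | inv a _ iha => rw [map_inv]; exact inv_mem iha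
        have hc := hcentral W hWn hWi (fun u hu v hv => congrArg Subtype.val (mul_comm' (⟨u, hu⟩ : W) ⟨v, hv⟩))
          (Subgroup.subset_closure (Or.inr ⟨x, rfl⟩))
        rw [← powL]
        exact commutatorElement_eq_one_iff_mul_comm.2 (Subgroup.mem_center_iff.1 hc y).symm
    obtain ⟨n, hn⟩ := IsPGroup.iff_card.1 S.hX
    exact key n fun x y => by rw [← hn]; exact pow_card_eq_one'
  have hsq : ∀ x : X, x ^ 2 ∈ Z := fun x => Subgroup.mem_center_iff.2 fun y =>
    (commutatorElement_eq_one_iff_mul_comm.1 (by rw [powL, hsq1])).symm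
  obtain ⟨p, q, hpq⟩ := hna
  have hpqK : ⁅p, q⁆ ∈ commutator X := by
    rw [commutator_def]; exact Subgroup.commutator_mem_commutator trivial trivial
  have hK2 : ∀ k ∈ commutator X, k ^ 2 = 1 := by
    intro k hk
    rw [commutator_eq_closure] at hk
    have : k ^ 2 = 1 ∧ k ∈ Z := by
      induction hk using Subgroup.closure_induction with
      | mem k hk => obtain ⟨a, b, rfl⟩ := hk; exact ⟨hsq1 a b, hcZ a b⟩
      | one => exact ⟨one_pow _, one_mem _⟩
      | mul a b _ _ iha ihb =>
        exact ⟨by rw [(show Commute a b from (Subgroup.mem_center_iff.1 iha.2 b).symm).mul_pow, iha.1, ihb.1, one_mul],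
          mul_mem iha.2 ihb.2⟩
      | inv a _ iha => exact ⟨by rw [inv_pow, iha.1, inv_one], inv_mem iha.2⟩
    exact this.1
  by_cases hmv : ∀ φ ∈ S.A, ∀ z ∈ Z, φ z = z
  · -- trivial action on the centre
    letI : CommGroup (X ⧸ commutator X) :=
      { (inferInstance : Group (X ⧸ commutator X)) with
        mul_comm := fun a b => by
          induction a using QuotientGroup.induction_on with | _ a => ?_
          induction b using QuotientGroup.induction_on with | _ b => ?_
          refine (QuotientGroup.eq).2 ?_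
          have : ⁅b⁻¹, a⁻¹⁆ ∈ commutator X := by
            rw [commutator_def]; exact Subgroup.commutator_mem_commutator trivial trivial
          simpa [commutatorElement_def, mul_assoc] using this }
    let f : X →* X ⧸ commutator X :=
      (powMonoidHom 2).comp (QuotientGroup.mk' (commutator X))
    have hf : ∀ x, f x = ((x ^ 2 : X) : X ⧸ commutator X) := fun x => rfl
    have hsqK : ∀ x : X, x ^ 2 ∈ commutator X := fun x => by
      have := hom_kill S f (fun φ hφ y => by
        rw [hf, hf, ← map_pow, hmv φ hφ _ (hsq y)]) x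
      rwa [hf, QuotientGroup.eq_one_iff] at this
    have hZK : Z ≤ commutator X := by
      haveI : Finite S.A := Nat.finite_of_card_ne_zero (fun h => by have := S.hA; rw [h] at this; simp at this)
      haveI := Fintype.ofFinite S.A
      intro z hz
      let T : X →* X ⧸ commutator X :=
        ∏ φ : S.A, (QuotientGroup.mk' (commutator X)).comp (φ : MulAut X).toMonoidHom
      have hT : ∀ y, T y = ∏ φ : S.A, (((φ : MulAut X) y : X) : X ⧸ commutator X) := fun y => by
        simp [T, MonoidHom.finsetProd_apply]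
      have h1 := hom_kill S T (fun φ hφ y => by
        rw [hT, hT]
        exact Fintype.prod_equiv (Equiv.mulRight ⟨φ, hφ⟩) _ _ fun _ => rfl) z
      rw [hT, Finset.prod_congr rfl (fun (φ : S.A) _ => by rw [hmv φ φ.2 z hz]), Finset.prod_const,
        Finset.card_univ, ← Nat.card_eq_fintype_card] at h1
      obtain ⟨m, hm⟩ := S.hA
      have h3 : (z : X ⧸ commutator X) ^ 2 = 1 := by
        rw [← QuotientGroup.mk_pow, QuotientGroup.eq_one_iff]; exact hsqK z
      rw [hm, pow_succ, pow_mul, h3, one_pow, one_mul] at h1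
      exact (QuotientGroup.eq_one_iff z).1 h1
    exact ⟨⟨p, q, hpq⟩, fun z hz => hK2 z (hZK hz), hsq, le_antisymm hKZ hZK⟩
  · push Not at hmv
    obtain ⟨φ, hφ, z, hz, hm⟩ := hmv
    have hz2 : ∀ w ∈ Z, w ^ 2 = 1 := hmoved φ hφ z hz hm
    have hEl : Cfsg.IsElementaryAbelian 2 Z := ⟨inferInstance, hz2⟩
    have h4 := S.hN8 Z inferInstance hEl
    refine ⟨⟨p, q, hpq⟩, hz2, hsq, le_antisymm hKZ
      (le_of_inv S hEl h4 (fun ψ _ w hw => map_center ψ hw) hφ hz hm hKZ hKi fun h => ?_)⟩
    rw [h, Subgroup.mem_bot] at hpqK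
    exact hpq (commutatorElement_eq_one_iff_mul_comm.1 hpqK)

/-- The classification. -/
theorem classification (S : Setup X) (hna : ∃ a b : X, a * b ≠ b * a) :
    Nonempty (X ≃* QuaternionGroup 2) ∨
      (Cfsg.IsSpecial 2 X ∧ Nat.card X = 64 ∧ Nat.card {x : X // orderOf x = 2} = 3 ∧
        ∀ x : X, orderOf x = 2 → x ∈ Subgroup.center X) ∨
      (Cfsg.IsExtraspecial 2 X ∧ Nat.card X = 32 ∧ Nat.card {x : X // orderOf x = 2} = 11) := by
  classical
  by_cases hbig : ∃ B : Subgroup X, B.Normal ∧ Inv S.A B ∧ (∀ a ∈ B, ∀ b ∈ B, a * b = b * a) ∧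
      (∃ φ ∈ S.A, ∃ b ∈ B, φ b ≠ b) ∧ ∃ b ∈ B, b ^ 2 ≠ 1
  · obtain ⟨B, hBn, hBi, hBc, ⟨φ, hφ, b, hb, hm⟩, hB2⟩ := hbig
    obtain ⟨D, hBD, hD⟩ := (Set.toFinite {N : Subgroup X | N.Normal ∧ Inv S.A N ∧
      ∀ a ∈ N, ∀ b ∈ N, a * b = b * a}).exists_le_maximal (show B ∈ _ from ⟨hBn, hBi, hBc⟩)
    obtain ⟨hDn, hDi, hDc⟩ := hD.prop
    obtain ⟨e, he, he2, hem⟩ : ∃ e ∈ B, e ^ 2 = 1 ∧ φ e ≠ e := by
      by_contra h
      push Not at h
      exact hm (trivial_of_omega S hBc hφ (hBi φ hφ) h b hb)
    obtain ⟨d, hd, hd2⟩ := hB2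
    let M : Moved S :=
      { D := D, normal := hDn, inv := hDi, comm := hDc
        max := fun N h1 h2 h3 h4 => hD.le_of_ge ⟨h1, h2, h3⟩ h4
        φ := φ, hφ := hφ, e := e, he := hBD he, he2 := he2, hm := hem, big := ⟨d, hBD hd, hd2⟩ }
    exact (M.two hna).classify S
  · push Not at hbig
    have hcentral : ∀ B : Subgroup X, B.Normal → Inv S.A B → (∀ a ∈ B, ∀ b ∈ B, a * b = b * a) →
        B ≤ Subgroup.center X := by
      intro B hBn hBi hBc
      by_cases hmv : ∀ φ ∈ S.A, ∀ b ∈ B, φ b = b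
      · exact central_of_fixed S hBn hmv
      push Not at hmv
      have h2 := hbig B hBn hBi hBc hmv
      have hEl : Cfsg.IsElementaryAbelian 2 B := ⟨.of_setLike_mul_comm hBc, h2⟩
      exact central_small S hBn hEl (S.hN8 B hBn hEl) hBi
    exact (two_of_central S hna hcentral fun φ hφ z hz hm => hbig _ inferInstance (fun ψ _ w hw => map_center ψ hw)
      (fun a ha b _ => (Subgroup.mem_center_iff.1 ha b).symm) ⟨φ, hφ, z, hz, hm⟩).classify S

/-- No self-centralizing abelian normal subgroup of rank three means no normal `E₈`. -/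
theorem normal_elementary_le_four (hX : IsPGroup 2 X)
    (hscn : ¬ ∃ A : Subgroup X, A.Normal ∧ Subgroup.centralizer (A : Set X) = A ∧
      ∃ E : Subgroup X, E ≤ A ∧ Cfsg.IsElementaryAbelian 2 E ∧ Nat.card E = 8)
    (U : Subgroup X) (hUn : U.Normal) (hU : Cfsg.IsElementaryAbelian 2 U) : Nat.card U ≤ 4 := by
  classical
  haveI : Fact (Nat.Prime 2) := ⟨Nat.prime_two⟩
  by_contra hlt
  push Not at hlt
  haveI := hUn
  have step : ∀ m, m ≤ 3 → ∃ B : Subgroup X, B.Normal ∧ B ≤ U ∧ Nat.card B = 2 ^ m := by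
    intro m
    induction m with
    | zero => exact fun _ => ⟨⊥, inferInstance, bot_le, Subgroup.card_bot⟩
    | succ m ih =>
      intro hm
      obtain ⟨B, hBn, hBU, hB⟩ := ih (by omega)
      haveI := hBn
      have : 2 ^ m ≤ 4 := (Nat.pow_le_pow_right (by norm_num) (show m ≤ 2 by omega)).trans (le_refl 4)
      obtain ⟨C, hCn, -, hCU, hC⟩ := PGroupBasics.exists_step (p := 2) hX B U
        (lt_of_le_of_ne hBU fun h => by rw [h] at hB; omega)
      exact ⟨C, hCn, hCU, by rw [hC, hB, pow_succ']⟩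
  obtain ⟨E, hEn, hEU, hE⟩ := step 3 le_rfl
  haveI := hU.1
  have hEc : ∀ a ∈ E, ∀ b ∈ E, a * b = b * a := fun a ha b hb =>
    congrArg Subtype.val (mul_comm' (⟨a, hEU ha⟩ : U) ⟨b, hEU hb⟩)
  obtain ⟨A, hEA, hA⟩ := (Set.toFinite {N : Subgroup X | N.Normal ∧ ∀ a ∈ N, ∀ b ∈ N, a * b = b * a}).exists_le_maximal
    (show E ∈ _ from ⟨hEn, hEc⟩)
  obtain ⟨hAn, hAc⟩ := hA.prop
  haveI := hAn
  refine hscn ⟨A, hAn, le_antisymm ?_ (fun a ha => Subgroup.mem_centralizer_iff.2 fun b hb => hAc b hb a ha),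
    E, hEA, ⟨.of_setLike_mul_comm hEc, fun a ha => hU.2 a (hEU ha)⟩, hE⟩
  set C := Subgroup.centralizer (A : Set X) with hC
  by_contra hCA
  haveI : C.Normal := Subgroup.normal_centralizer
  obtain ⟨B, hBn, hAB, hBC, hB⟩ := PGroupBasics.exists_step (p := 2) hX A C
    (lt_of_le_of_ne (fun a ha => Subgroup.mem_centralizer_iff.2 fun b hb => hAc b hb a ha) fun h => hCA h.ge)
  have hAB' : A < B := lt_of_le_of_ne hAB fun h => by
    rw [← h] at hB; have : 0 < Nat.card A := Nat.card_pos; omega
  obtain ⟨x, hxB, hxA⟩ := SetLike.exists_of_lt hAB'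
  have hgen : B ≤ Subgroup.closure ((A : Set X) ∪ {x}) := by
    have hlt' : A < Subgroup.closure ((A : Set X) ∪ {x}) :=
      lt_of_le_of_ne (fun a ha => Subgroup.subset_closure (Or.inl ha))
        fun h => hxA (h ▸ Subgroup.subset_closure (Or.inr rfl))
    have hle : Subgroup.closure ((A : Set X) ∪ {x}) ≤ B := by
      rw [Subgroup.closure_le]
      rintro u (hu | hu)
      · exact hAB hu
      · rw [Set.mem_singleton_iff.1 hu]; exact hxB
    refine (Subgroup.eq_of_le_of_card_ge hle ?_).ge
    obtain ⟨i, hi⟩ := IsPGroup.iff_card.1 (hX.to_subgroup A)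
    obtain ⟨j, hj⟩ := IsPGroup.iff_card.1 (hX.to_subgroup (Subgroup.closure ((A : Set X) ∪ {x})))
    have h1 : Nat.card A < Nat.card (Subgroup.closure ((A : Set X) ∪ {x})) := Set.ncard_lt_ncard hlt'
    rw [hB, hi, hj, ← pow_succ']
    rw [hi, hj] at h1
    exact Nat.pow_le_pow_right (by norm_num) ((Nat.pow_lt_pow_iff_right (a := 2) (by norm_num)).1 h1)
  haveI hWc : IsMulCommutative (Subgroup.closure ((A : Set X) ∪ {x})) := Subgroup.isMulCommutative_closure (by
    rintro u (hu | hu) v (hv | hv)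
    · exact hAc u hu v hv
    · rw [Set.mem_singleton_iff.1 hv]; exact Subgroup.mem_centralizer_iff.1 (hBC hxB) u hu
    · rw [Set.mem_singleton_iff.1 hu]; exact (Subgroup.mem_centralizer_iff.1 (hBC hxB) v hv).symm
    · rw [Set.mem_singleton_iff] at hu hv; rw [hu, hv])
  have hBc : ∀ a ∈ B, ∀ b ∈ B, a * b = b * a := fun a ha b hb =>
    congrArg Subtype.val (mul_comm' (⟨a, hgen ha⟩ : Subgroup.closure ((A : Set X) ∪ {x})) ⟨b, hgen hb⟩)
  exact hxA (hA.le_of_ge (y := B) ⟨hBn, hBc⟩ hAB hxB)

end Cfsg.Agent.ScnThreeTwo
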